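import Groth.Agent.AICCover.FiniteAlg

/-!
# Extending finite surjective (finitely presented) morphisms from quasi-compact opens
-/

set_option autoImplicit false
set_option backward.isDefEq.respectTransparency.types false
noncomputable section

universe u

open CategoryTheory AlgebraicGeometry Limits TopologicalSpace

namespace Groth.Agent.AICCover

/-- Restriction to `D(r)` inside an open over which the morphism is the base change `y`. -/
theorem property_restrict_of_isPullback {P : MorphismProperty Scheme.{u}} [P.IsStableUnderBaseChange]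
    {X S Y : Scheme.{u}} {f : X ⟶ S} {W V : S.Opens} {y : Y ⟶ W} {i : Y ⟶ X}
    (h : IsPullback i y f W.ι) (hV : V ≤ W) (hy : P y) : P (f ∣_ V) := by
  let j : ((f ⁻¹ᵁ V : X.Opens) : Scheme.{u}) ⟶ Y := h.lift (f ⁻¹ᵁ V).ι ((f ∣_ V) ≫ S.homOfLE hV) (by
    rw [Category.assoc, Scheme.homOfLE_ι, morphismRestrict_ι])
  have h1 : IsPullback (j ≫ i) (f ∣_ V) f (S.homOfLE hV ≫ W.ι) := by
    rw [h.lift_fst, Scheme.homOfLE_ι]
    exact (isPullback_morphismRestrict f V).flip
  exact P.of_isPullback (IsPullback.of_right h1 (h.lift_snd _ _ _) h) hy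

theorem isIso_restrict_iSup {X Y : Scheme.{u}} (f : X ⟶ Y) {ι : Type*} (U : ι → Y.Opens)
    (h : ∀ i, IsIso (f ∣_ U i)) : IsIso (f ∣_ (⨆ i, U i)) := by
  let W : Y.Opens := ⨆ i, U i
  show (MorphismProperty.isomorphisms Scheme.{u}) (f ∣_ W)
  refine IsZariskiLocalAtTarget.of_iSup_eq_top (P := MorphismProperty.isomorphisms Scheme.{u})
    (fun i => W.ι ⁻¹ᵁ U i) ?_ fun i => ?_
  · rw [← Scheme.Hom.preimage_iSup]
    exact Scheme.Opens.ι_preimage_self W
  · refine ((MorphismProperty.isomorphisms Scheme.{u}).arrow_mk_iso_iff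
      (morphismRestrictRestrict f W (W.ι ⁻¹ᵁ U i))).2 ?_
    refine ((MorphismProperty.isomorphisms Scheme.{u}).arrow_mk_iso_iff (morphismRestrictEq f ?_)).2 (h i)
    rw [Scheme.Hom.image_preimage_eq_opensRange_inf, Scheme.Opens.opensRange_ι]
    exact inf_eq_right.2 (le_iSup U i)

/-- Finite surjective morphisms extend from a quasi-compact open of an affine scheme. -/
theorem exists_extend_affine {A : CommRingCat.{u}} (W : (Spec A).Opens) (hW : IsCompact (W : Set (Spec A)))
    {Y : Scheme.{u}} (y : Y ⟶ W) [IsFinite y] [Surjective y] :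
    ∃ (B : CommRingCat.{u}) (z : A ⟶ B) (i : Y ⟶ Spec B), IsPullback i y (Spec.map z) W.ι ∧
      Surjective (Spec.map z) ∧ IsFinite (Spec.map z) ∧
      (LocallyOfFinitePresentation y → LocallyOfFinitePresentation (Spec.map z)) := by
  classical
  haveI : CompactSpace (W : Scheme.{u}) := isCompact_iff_compactSpace.mp hW
  haveI : QuasiCompact W.ι := inferInstance
  let f := y ≫ W.ι
  let π₁ : f.normalization ⟶ Spec A := f.fromNormalization
  -- the normalization restricts to `y`
  obtain ⟨i₁, h₁⟩ : ∃ i₁ : Y ⟶ f.normalization, IsPullback i₁ y π₁ W.ι := by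
    have hl : pullback.lift (𝟙 Y) y (show 𝟙 Y ≫ f = y ≫ W.ι from Category.id_comp _) ≫
        pullback.fst f W.ι = 𝟙 Y := pullback.lift_fst _ _ _
    haveI : IsIso (pullback.fst f W.ι) := by
      refine ⟨pullback.lift (𝟙 Y) y (show 𝟙 Y ≫ f = y ≫ W.ι from Category.id_comp _), ?_, hl⟩
      apply pullback.hom_ext
      · rw [Category.assoc, hl, Category.id_comp, Category.comp_id]
      · rw [← cancel_mono W.ι]
        simp only [Category.assoc, Category.id_comp, pullback.lift_snd]
        exact pullback.condition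
    have hsnd : pullback.snd f W.ι = pullback.fst f W.ι ≫ y := by
      rw [← cancel_mono W.ι, ← pullback.condition]
      simp [f]
    haveI : IsIntegralHom (pullback.snd f W.ι) := by rw [hsnd]; infer_instance
    let e : Y ≅ pullback π₁ W.ι := (asIso (pullback.fst f W.ι)).symm ≪≫
      asIso (pullback.snd f W.ι).toNormalization ≪≫ asIso (f.normalizationPullback W.ι)
    have he2 : e.hom ≫ pullback.snd π₁ W.ι = y := by
      show (inv (pullback.fst f W.ι) ≫ (pullback.snd f W.ι).toNormalization ≫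
        f.normalizationPullback W.ι) ≫ pullback.snd _ _ = _
      simp only [Category.assoc, Scheme.Hom.normalizationPullback_snd,
        Scheme.Hom.toNormalization_fromNormalization]
      rw [hsnd]
      simp
    exact ⟨e.hom ≫ pullback.fst π₁ W.ι, (IsPullback.of_hasPullback π₁ W.ι).of_iso e.symm (Iso.refl _) (Iso.refl _)
      (Iso.refl _) (by simp) (by simp [← he2]) (by simp) (by simp)⟩
  haveI : IsAffine f.normalization := isAffine_of_isAffineHom π₁
  let C : CommRingCat.{u} := Γ(f.normalization, ⊤)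
  obtain ⟨φ, hφ⟩ := Spec.map_surjective (f.normalization.isoSpec.inv ≫ π₁)
  have h₂ : IsPullback (i₁ ≫ f.normalization.isoSpec.hom) y (Spec.map φ) W.ι :=
    h₁.of_iso (Iso.refl _) f.normalization.isoSpec (Iso.refl _) (Iso.refl _) (by simp) (by simp)
      (by simp [hφ]) (by simp)
  haveI : IsIntegralHom (Spec.map φ) := by rw [hφ]; infer_instance
  letI := φ.hom.toAlgebra
  haveI : Algebra.IsIntegral A C := algebraMap_isIntegral_iff.mp (IsIntegralHom.SpecMap_iff.mp ‹_›)
  obtain ⟨t, ht⟩ := PrimeSpectrum.isCompact_isOpen_iff.1 ⟨hW, W.2⟩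
  let r : Fin t.card → A := fun k => (t.equivFin.symm k : A)
  have hrW : ∀ p : PrimeSpectrum A, p ∈ W ↔ ∃ k, r k ∉ p.asIdeal := by
    intro p
    show (p : Spec A) ∈ (W : Set (Spec A)) ↔ _
    rw [← ht]
    show ¬ ((t : Set A) ⊆ (p.asIdeal : Set A)) ↔ _
    rw [Set.not_subset]
    exact ⟨fun ⟨a, ha, hap⟩ => ⟨t.equivFin ⟨a, ha⟩, by simpa [r] using hap⟩,
      fun ⟨k, hk⟩ => ⟨r k, (t.equivFin.symm k).2, hk⟩⟩
  have hle : ∀ k, (PrimeSpectrum.basicOpen (r k) : (Spec A).Opens) ≤ W := fun k p hp => (hrW p).2 ⟨k, hp⟩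
  have haway : ∀ k, algebraMap A (Localization.Away (algebraMap A C (r k))) =
      (Localization.awayMap φ.hom (r k)).comp (algebraMap A (Localization.Away (r k))) := fun k => by
    refine RingHom.ext fun a => ?_
    show algebraMap A (Localization.Away (algebraMap A C (r k))) a =
      Localization.awayMap φ.hom (r k) (algebraMap A (Localization.Away (r k)) a)
    rw [Localization.awayMap, IsLocalization.Away.map, IsLocalization.map_eq]
    rfl
  have hfinA : ∀ k, (Localization.awayMap φ.hom (r k)).Finite := fun k => by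
    have h := property_restrict_of_isPullback (P := @IsFinite) h₂ (hle k) ‹_›
    exact (IsFinite.SpecMap_iff _).1
      ((MorphismProperty.arrow_mk_iso_iff (@IsFinite : MorphismProperty Scheme.{u})
        (SpecMapRestrictBasicOpenIso φ (r k))).1 h)
  have hft : ∀ k, Algebra.FiniteType A (Localization.Away (algebraMap A C (r k))) := fun k => by
    rw [← RingHom.finiteType_algebraMap, haway]
    exact (RingHom.FiniteType.of_finite (hfinA k)).comp
      (RingHom.finiteType_algebraMap.2 inferInstance)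
  have hsur : ∀ p : PrimeSpectrum A, (∃ k, r k ∉ p.asIdeal) → RingHom.ker (algebraMap A C) ≤ p.asIdeal := by
    intro p hp a ha
    obtain ⟨x, hx⟩ := y.surjective ⟨p, (hrW p).2 hp⟩
    let q := (i₁ ≫ f.normalization.isoSpec.hom) x
    have hq : Spec.map φ q = p := by
      show (((i₁ ≫ f.normalization.isoSpec.hom) ≫ Spec.map φ)) x = p
      rw [h₂.w, Scheme.Hom.comp_apply, hx]
      rfl
    rw [← hq]
    show φ.hom a ∈ q.asIdeal
    rw [show φ.hom a = 0 from ha]
    exact zero_mem _
  obtain ⟨B, _, _, _, ψ, hbij, hBsur, hBfp⟩ := exists_finite_model r hft hsur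
  let z : A ⟶ CommRingCat.of B := CommRingCat.ofHom (algebraMap A B)
  let m : Spec C ⟶ Spec (CommRingCat.of B) := Spec.map (CommRingCat.ofHom ψ.toRingHom)
  have hm : m ≫ Spec.map z = Spec.map φ := by
    rw [← Spec.map_comp]
    congr 1
    ext a
    exact ψ.commutes a
  haveI : IsIso (m ∣_ (Spec.map z ⁻¹ᵁ W)) := by
    let Ub : Fin t.card → (Spec (CommRingCat.of B)).Opens := fun k => PrimeSpectrum.basicOpen (algebraMap A B (r k))
    have hsup : Spec.map z ⁻¹ᵁ W = ⨆ k, Ub k := by
      ext p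
      show Spec.map z p ∈ W ↔ p ∈ ⨆ k, Ub k
      refine (hrW (Spec.map z p)).trans (Iff.trans ?_ Opens.mem_iSup.symm)
      exact Iff.rfl
    rw [hsup]
    refine isIso_restrict_iSup m _ fun k => ?_
    show (MorphismProperty.isomorphisms Scheme.{u}) _
    rw [(MorphismProperty.isomorphisms Scheme.{u}).arrow_mk_iso_iff
      (SpecMapRestrictBasicOpenIso (CommRingCat.ofHom ψ.toRingHom) (algebraMap A B (r k)))]
    show IsIso _
    haveI : IsIso (CommRingCat.ofHom (Localization.awayMap (CommRingCat.ofHom ψ.toRingHom).hom (algebraMap A B (r k)))) :=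
      (RingEquiv.ofBijective _ (hbij k)).toCommRingCatIso.isIso_hom
    infer_instance
  have hz : IsPullback (m ∣_ (Spec.map z ⁻¹ᵁ W) ≫ (Spec.map z ∣_ W)) (m ⁻¹ᵁ (Spec.map z ⁻¹ᵁ W)).ι W.ι (Spec.map φ) := by
    rw [← hm]
    exact (isPullback_morphismRestrict m _).paste_horiz (isPullback_morphismRestrict (Spec.map z) W)
  let e := h₂.isoIsPullback _ _ hz.flip
  let k : Y ≅ ((Spec.map z ⁻¹ᵁ W : (Spec (CommRingCat.of B)).Opens) : Scheme.{u}) :=
    e ≪≫ asIso (m ∣_ (Spec.map z ⁻¹ᵁ W))
  have hpb : IsPullback (k.hom ≫ (Spec.map z ⁻¹ᵁ W).ι) y (Spec.map z) W.ι :=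
    (isPullback_morphismRestrict (Spec.map z) W).flip.of_iso k.symm (Iso.refl _) (Iso.refl _) (Iso.refl _)
      (by simp) (by
        rw [Iso.symm_hom, Iso.refl_hom, Category.comp_id, Iso.eq_inv_comp]
        show (e.hom ≫ m ∣_ (Spec.map z ⁻¹ᵁ W)) ≫ (Spec.map z ∣_ W) = y
        rw [Category.assoc]
        exact h₂.isoIsPullback_hom_snd _ _ hz.flip) (by simp) (by simp)
  refine ⟨CommRingCat.of B, z, _, hpb, ⟨hBsur⟩, (IsFinite.SpecMap_iff _).2 (RingHom.finite_algebraMap.2 ‹_›),
    fun hy => (HasRingHomProperty.Spec_iff (P := @LocallyOfFinitePresentation)).2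
      (RingHom.finitePresentation_algebraMap.2 (hBfp fun k => ?_))⟩
  have h := property_restrict_of_isPullback (P := @LocallyOfFinitePresentation) h₂ (hle k) hy
  replace h := (MorphismProperty.arrow_mk_iso_iff (@LocallyOfFinitePresentation : MorphismProperty Scheme.{u})
    (SpecMapRestrictBasicOpenIso φ (r k))).1 h
  rw [← RingHom.finitePresentation_algebraMap, haway]
  exact ((HasRingHomProperty.Spec_iff (P := @LocallyOfFinitePresentation)).1 h).comp
    (RingHom.finitePresentation_algebraMap.2 (IsLocalization.Away.finitePresentation (r k)))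

/-- One gluing step. -/
theorem exists_extend_step {S' O Y : Scheme.{u}} {A : CommRingCat.{u}} (a : O ⟶ S') (b : Spec A ⟶ S')
    [IsOpenImmersion a] [IsOpenImmersion b] (hcov : ∀ s : S', s ∈ Set.range a ∨ s ∈ Set.range b)
    (hc : IsCompact (b ⁻¹' Set.range a)) (y : Y ⟶ O) [IsFinite y] [Surjective y] :
    ∃ (Z : Scheme.{u}) (π : Z ⟶ S') (i : Y ⟶ Z), IsPullback i y π a ∧ Surjective π ∧ IsFinite π ∧
      (LocallyOfFinitePresentation y → LocallyOfFinitePresentation π) := by
  let W : (Spec A).Opens := b ⁻¹ᵁ a.opensRange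
  let l : (W : Scheme.{u}) ⟶ O := IsOpenImmersion.lift a (W.ι ≫ b) (by
    rintro - ⟨w, rfl⟩
    exact w.2)
  have hl : l ≫ a = W.ι ≫ b := IsOpenImmersion.lift_fac _ _ _
  haveI : IsOpenImmersion (l ≫ a) := by rw [hl]; infer_instance
  haveI : IsOpenImmersion l := IsOpenImmersion.of_comp l a
  obtain ⟨B, z, i, hi, hzs, hzf, hzp⟩ := exists_extend_affine W hc (pullback.snd y l)
  haveI := hzs
  haveI := hzf
  haveI : IsOpenImmersion i := MorphismProperty.of_isPullback (P := @IsOpenImmersion) hi.flip inferInstance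
  let f₁ := pullback.fst y l
  haveI : IsOpenImmersion f₁ := inferInstanceAs (IsOpenImmersion (pullback.fst y l))
  have hw : f₁ ≫ y ≫ a = i ≫ Spec.map z ≫ b := by
    rw [pullback.condition_assoc, hl, ← Category.assoc i, hi.w, Category.assoc]
  let π : pushout f₁ i ⟶ S' := pushout.desc (y ≫ a) (Spec.map z ≫ b) hw
  haveI : IsOpenImmersion (pushout.inl f₁ i) :=
    inferInstanceAs (IsOpenImmersion (colimit.ι (span f₁ i) WalkingSpan.left))
  haveI : IsOpenImmersion (pushout.inr f₁ i) :=
    inferInstanceAs (IsOpenImmersion (colimit.ι (span f₁ i) WalkingSpan.right))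
  have hπl : pushout.inl f₁ i ≫ π = y ≫ a := pushout.inl_desc _ _ _
  have hπr : pushout.inr f₁ i ≫ π = Spec.map z ≫ b := pushout.inr_desc _ _ _
  have hjoint : ∀ x : ↥(pushout f₁ i), x ∈ Set.range (pushout.inl f₁ i) ∨ x ∈ Set.range (pushout.inr f₁ i) := by
    intro x
    obtain ⟨j, x', rfl⟩ := Scheme.IsLocallyDirected.ι_jointly_surjective (span f₁ i) x
    rcases j with _ | (_ | _)
    · left
      refine ⟨f₁ x', ?_⟩
      exact congrArg (fun g : _ ⟶ pushout f₁ i => g x') (colimit.w (span f₁ i) WalkingSpan.Hom.fst)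
    · exact Or.inl ⟨x', rfl⟩
    · exact Or.inr ⟨x', rfl⟩
  have hyl : ∀ x : Y, (π (pushout.inl f₁ i x)) = a (y x) := fun x => by
    rw [← Scheme.Hom.comp_apply, hπl, Scheme.Hom.comp_apply]
  have hzr : ∀ x, π (pushout.inr f₁ i x) = b (Spec.map z x) := fun x => by
    rw [← Scheme.Hom.comp_apply, hπr, Scheme.Hom.comp_apply]
  have hglue : ∀ x, pushout.inl f₁ i (f₁ x) = pushout.inr f₁ i (i x) := fun x => by
    rw [← Scheme.Hom.comp_apply, pushout.condition, Scheme.Hom.comp_apply]
  have ha : IsPullback (pushout.inl f₁ i) y π a := by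
    refine (IsOpenImmersion.isPullback y (pushout.inl f₁ i) a π hπl ?_).flip
    ext x
    constructor
    · intro hx
      rcases hjoint x with h | ⟨x', rfl⟩
      · exact h
      · have hmem : Spec.map z x' ∈ W := by
          show b (Spec.map z x') ∈ a.opensRange
          rw [← hzr]; exact hx
        obtain ⟨v, hv⟩ : x' ∈ Set.range i := by
          let w : (W : Scheme.{u}) := ⟨Spec.map z x', hmem⟩
          obtain ⟨c, hc1, -⟩ := Scheme.Pullback.exists_preimage_pullback (f := Spec.map z) (g := W.ι) x' w rfl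
          refine ⟨hi.isoPullback.inv c, ?_⟩
          rw [← Scheme.Hom.comp_apply, hi.isoPullback_inv_fst]
          exact hc1
        exact ⟨f₁ v, by rw [hglue, hv]⟩
    · rintro ⟨x', rfl⟩
      exact ⟨y x', (hyl x').symm⟩
  have hb : IsPullback (pushout.inr f₁ i) (Spec.map z) π b := by
    refine (IsOpenImmersion.isPullback (Spec.map z) (pushout.inr f₁ i) b π hπr ?_).flip
    ext x
    constructor
    · intro hx
      rcases hjoint x with ⟨x', rfl⟩ | h
      · obtain ⟨q, hq⟩ : π (pushout.inl f₁ i x') ∈ Set.range b := hx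
        rw [hyl] at hq
        have hqW : q ∈ W := by
          show b q ∈ a.opensRange
          rw [hq]; exact ⟨_, rfl⟩
        let q' : (W : Scheme.{u}) := ⟨q, hqW⟩
        have hlq : l q' = y x' := a.isOpenEmbedding.injective
          ((congrArg (fun g : (W : Scheme.{u}) ⟶ S' => g q') hl).trans hq)
        obtain ⟨v, hv1, -⟩ := Scheme.Pullback.exists_preimage_pullback (f := y) (g := l) x' q' hlq.symm
        exact ⟨i v, by rw [← hv1, ← hglue]⟩
      · exact h
    · rintro ⟨x', rfl⟩
      exact ⟨_, (hzr x').symm⟩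
  have key : ∀ (P : MorphismProperty Scheme.{u}) [IsZariskiLocalAtTarget P],
      P y → P (Spec.map z) → P π := by
    intro P _ hy hz'
    refine IsZariskiLocalAtTarget.of_iSup_eq_top (P := P) (fun c : Bool => if c then a.opensRange else b.opensRange)
      ?_ fun c => ?_
    · rw [eq_top_iff]
      intro s _
      rw [Opens.mem_iSup]
      rcases hcov s with h | h
      · exact ⟨true, h⟩
      · exact ⟨false, h⟩
    · cases c
      · show P (π ∣_ b.opensRange)
        rw [P.arrow_mk_iso_iff (morphismRestrictOpensRange π b)]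
        rw [← hb.isoPullback_inv_snd, P.cancel_left_of_respectsIso]
        exact hz'
      · show P (π ∣_ a.opensRange)
        rw [P.arrow_mk_iso_iff (morphismRestrictOpensRange π a)]
        rw [← ha.isoPullback_inv_snd, P.cancel_left_of_respectsIso]
        exact hy
  exact ⟨_, π, _, ha, key @Surjective ‹_› ‹_›, key @IsFinite ‹_› ‹_›,
    fun hy => key @LocallyOfFinitePresentation hy (hzp inferInstance)⟩

/-- Finite surjective morphisms extend from quasi-compact opens of qcqs schemes. -/
theorem exists_extend {S : Scheme.{u}} [CompactSpace S] [QuasiSeparatedSpace S] (O : S.Opens)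
    (hO : IsCompact (O : Set S)) {Y : Scheme.{u}} (y : Y ⟶ O) [IsFinite y] [Surjective y] :
    ∃ (Z : Scheme.{u}) (π : Z ⟶ S) (i : Y ⟶ Z), IsPullback i y π O.ι ∧ Surjective π ∧ IsFinite π ∧
      (LocallyOfFinitePresentation y → LocallyOfFinitePresentation π) := by
  have key : ∀ T : S.Opens, IsCompact (T : Set S) →
      (fun T : S.Opens => ∃ (Z : Scheme.{u}) (π : Z ⟶ ((O ⊔ T : S.Opens) : Scheme.{u})) (i : Y ⟶ Z),
        IsPullback i y π (S.homOfLE le_sup_left) ∧ Surjective π ∧ IsFinite π ∧
        (LocallyOfFinitePresentation y → LocallyOfFinitePresentation π)) T := by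
    intro T hT
    refine compact_open_induction_on (P := fun T : S.Opens => ∃ (Z : Scheme.{u})
      (π : Z ⟶ ((O ⊔ T : S.Opens) : Scheme.{u})) (i : Y ⟶ Z),
        IsPullback i y π (S.homOfLE le_sup_left) ∧ Surjective π ∧ IsFinite π ∧
        (LocallyOfFinitePresentation y → LocallyOfFinitePresentation π)) T hT ?_ ?_
    ·
      have hOe : O ⊔ ⊥ = O := sup_bot_eq O
      refine ⟨Y, y ≫ (S.isoOfEq hOe).inv, 𝟙 Y, ?_, inferInstance, inferInstance, fun h => inferInstance⟩
      haveI : IsIso (S.homOfLE (le_sup_left : O ≤ O ⊔ ⊥)) := ⟨⟨S.homOfLE hOe.le, by simp, by simp⟩⟩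
      refine IsPullback.of_horiz_isIso ⟨?_⟩
      rw [Category.id_comp]
      congr 1
    · intro T hT U ih
      obtain ⟨Z, π, i, hi, hs, hf, hp⟩ := ih
      haveI := hs
      haveI := hf
      let S' : S.Opens := O ⊔ (T ⊔ U.1)
      have h1 : O ⊔ T ≤ S' := sup_le_sup_left le_sup_left _
      have h2 : U.1 ≤ S' := le_trans le_sup_right le_sup_right
      let b : Spec Γ(S, U.1) ⟶ (S' : Scheme.{u}) := U.2.isoSpec.inv ≫ S.homOfLE h2
      have hbS : b ≫ S'.ι = U.2.fromSpec := by
        simp [b, IsAffineOpen.isoSpec_inv_ι]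
      obtain ⟨Z', π', i', hi', hs', hf', hp'⟩ := exists_extend_step (S.homOfLE h1) b
        (fun s => by
          have hs : s.1 ∈ O ⊔ T ∨ s.1 ∈ U.1 := by
            rcases (s.2 : s.1 ∈ O ⊔ (T ⊔ U.1)) with h | h | h
            exacts [Or.inl (Or.inl h), Or.inl (Or.inr h), Or.inr h]
          rcases hs with h | h
          · exact Or.inl ⟨⟨s.1, h⟩, Subtype.ext (by simp)⟩
          · refine Or.inr ⟨U.2.isoSpec.hom ⟨s.1, h⟩, ?_⟩
            rw [← Scheme.Hom.comp_apply, Iso.hom_inv_id_assoc]
            exact Subtype.ext (by simp))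
        (by
          have hc : IsCompact (U.2.fromSpec ⁻¹' (((O ⊔ T : S.Opens) : Set S) ∩ (U.1 : Set S))) := by
            haveI := U.2.isOpenImmersion_fromSpec
            refine U.2.fromSpec.isOpenEmbedding.isInducing.isCompact_preimage'
              (((hO.union hT).inter_of_isOpen U.2.isCompact (O ⊔ T).2 U.1.2)) ?_
            rw [U.2.range_fromSpec]; exact Set.inter_subset_right
          convert hc using 1
          ext q
          have hqS : S'.ι (b q) = U.2.fromSpec q := by
            rw [← hbS]; rfl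
          constructor
          · rintro ⟨x, hx⟩
            refine ⟨?_, by rw [← U.2.range_fromSpec]; exact ⟨q, rfl⟩⟩
            rw [← hqS, ← hx]
            show S'.ι (S.homOfLE h1 x) ∈ O ⊔ T
            rw [← Scheme.Hom.comp_apply, Scheme.homOfLE_ι]
            exact x.2
          · rintro ⟨hq, -⟩
            exact ⟨⟨U.2.fromSpec q, hq⟩, Subtype.ext (by simpa using hqS.symm)⟩) π
      refine ⟨Z', π', i ≫ i', ?_, hs', hf', fun h => hp' (hp h)⟩
      have := hi.paste_horiz hi'
      rwa [Scheme.homOfLE_homOfLE] at this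
  obtain ⟨Z, π, i, hi, hs, hf, hp⟩ := key ⊤ (by simpa using isCompact_univ)
  have htop : O ⊔ ⊤ = ⊤ := sup_top_eq O
  haveI : IsIso ((O ⊔ ⊤ : S.Opens).ι) := by
    rw [htop]; exact (inferInstance : IsIso (Scheme.topIso S).hom)
  haveI := hs
  haveI := hf
  refine ⟨Z, π ≫ (O ⊔ ⊤ : S.Opens).ι, i, ?_, inferInstance, inferInstance, fun h => ?_⟩
  · have h2 : IsPullback (𝟙 Z) π (π ≫ (O ⊔ ⊤ : S.Opens).ι) (O ⊔ ⊤ : S.Opens).ι :=
      IsPullback.of_horiz_isIso ⟨by simp⟩
    simpa using hi.paste_horiz h2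
  · haveI := hp h; infer_instance

end Groth.Agent.AICCover
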