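import Groth.Agent.AICCover.Main
import Groth.Agent.AICCover.Extend

/-!
# Finite finitely presented covers with Zariski local sections
-/

set_option autoImplicit false
set_option backward.isDefEq.respectTransparency.types false
noncomputable section

universe u

open CategoryTheory AlgebraicGeometry Limits TopologicalSpace

namespace Groth.Agent.AICCover

/-- `π` has Zariski local lifts to `g` near the points over `O`. -/
def HasLocalSections {X S Z : Scheme.{u}} (g : X ⟶ S) (π : Z ⟶ S) (O : S.Opens) : Prop :=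
  ∀ z : Z, π z ∈ O → ∃ (V : Z.Opens) (r : (V : Scheme.{u}) ⟶ X), z ∈ V ∧ r ≫ g = V.ι ≫ π

theorem HasLocalSections.comp {X S Z Z' : Scheme.{u}} {g : X ⟶ S} {π : Z ⟶ S} {O : S.Opens}
    (h : HasLocalSections g π O) (f : Z' ⟶ Z) : HasLocalSections g (f ≫ π) O := by
  intro z hz
  obtain ⟨V, r, hzV, hr⟩ := h (f z) hz
  refine ⟨f ⁻¹ᵁ V, (f ∣_ V) ≫ r, hzV, ?_⟩
  rw [Category.assoc, hr, morphismRestrict_ι_assoc]

theorem exists_cover_affine {X S : Scheme.{u}} (g : X ⟶ S) [LocallyOfFinitePresentation g] {T : Scheme.{u}}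
    (π : T ⟶ S) [IsIntegralHom π] [Surjective π]
    (hT : ∀ z : T, ∃ (V : T.Opens) (r : (V : Scheme.{u}) ⟶ X), z ∈ V ∧ r ≫ g = V.ι ≫ π)
    (U : S.affineOpens) :
    ∃ (B : CommRingCat.{u}) (y : Spec B ⟶ U.1), Surjective y ∧ IsFinite y ∧ LocallyOfFinitePresentation y ∧
      HasLocalSections g (y ≫ U.1.ι) U.1 := by
  classical
  let P := pullback π U.2.fromSpec
  haveI : IsAffine P := isAffine_of_isAffineHom (pullback.snd π U.2.fromSpec)
  let C : CommRingCat.{u} := Γ(P, ⊤)
  let j : Spec C ⟶ T := P.isoSpec.inv ≫ pullback.fst π U.2.fromSpec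
  obtain ⟨φ, hφ⟩ := Spec.map_surjective (P.isoSpec.inv ≫ pullback.snd π U.2.fromSpec)
  haveI : IsIntegralHom (Spec.map φ) := by rw [hφ]; infer_instance
  haveI : Surjective (Spec.map φ) := by rw [hφ]; infer_instance
  letI := φ.hom.toAlgebra
  haveI : Algebra.IsIntegral Γ(S, U.1) C := algebraMap_isIntegral_iff.mp (IsIntegralHom.SpecMap_iff.mp ‹_›)
  have hjπ : j ≫ π = Spec.map φ ≫ U.2.fromSpec := by
    rw [hφ, Category.assoc, Category.assoc, pullback.condition]
  -- small pieces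
  have hsmall : ∀ p : Spec C, ∃ (c : C) (W : X.Opens) (hW : IsAffineOpen W) (hWU : W ≤ g ⁻¹ᵁ U.1),
      c ∉ p.asIdeal ∧
      ∃ γ : letI := (g.appLE U.1 W hWU).hom.toAlgebra; Γ(X, W) →ₐ[Γ(S, U.1)] Localization.Away c, True := by
    intro p
    obtain ⟨V, r, hpV, hr⟩ := hT (j p)
    let p' : (j ⁻¹ᵁ V : (Spec C).Opens) := ⟨p, hpV⟩
    let ρ : ((j ⁻¹ᵁ V : (Spec C).Opens) : Scheme.{u}) ⟶ X := (j ∣_ V) ≫ r
    have hρ : ρ ≫ g = (j ⁻¹ᵁ V).ι ≫ Spec.map φ ≫ U.2.fromSpec := by
      rw [Category.assoc, hr, morphismRestrict_ι_assoc, hjπ]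
    have hmem : g (ρ p') ∈ U.1 := by
      rw [← Scheme.Hom.comp_apply, hρ, ← SetLike.mem_coe, ← U.2.range_fromSpec]
      exact ⟨_, rfl⟩
    obtain ⟨W, hW, hpW, hWU⟩ := exists_isAffineOpen_mem_and_subset (x := ρ p') (U := g ⁻¹ᵁ U.1) hmem
    obtain ⟨_, ⟨c, rfl⟩, hpc, hcle⟩ := PrimeSpectrum.isTopologicalBasis_basic_opens.exists_subset_of_mem_open
      (show p ∈ ((j ⁻¹ᵁ V).ι ''ᵁ (ρ ⁻¹ᵁ W) : Set (Spec C)) from ⟨p', hpW, rfl⟩)
      ((j ⁻¹ᵁ V).ι ''ᵁ (ρ ⁻¹ᵁ W)).2
    let i : Spec (CommRingCat.of (Localization.Away c)) ⟶ Spec C :=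
      Spec.map (CommRingCat.ofHom (algebraMap C (Localization.Away c)))
    have hri : Set.range i ⊆ Set.range (j ⁻¹ᵁ V).ι := by
      rw [show Set.range i = _ from PrimeSpectrum.localization_away_comap_range (Localization.Away c) c]
      intro q hq
      obtain ⟨q', -, rfl⟩ := hcle hq
      exact ⟨q', rfl⟩
    let t : Spec (CommRingCat.of (Localization.Away c)) ⟶ ((j ⁻¹ᵁ V : (Spec C).Opens) : Scheme.{u}) :=
      IsOpenImmersion.lift (j ⁻¹ᵁ V).ι i hri
    have ht : t ≫ (j ⁻¹ᵁ V).ι = i := IsOpenImmersion.lift_fac _ _ _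
    have hrW : Set.range (t ≫ ρ) ⊆ Set.range hW.fromSpec := by
      rw [hW.range_fromSpec]
      rintro - ⟨q, rfl⟩
      have hq : i q ∈ (PrimeSpectrum.basicOpen c : Set (PrimeSpectrum C)) := by
        rw [← PrimeSpectrum.localization_away_comap_range (Localization.Away c) c]
        exact ⟨q, rfl⟩
      obtain ⟨q', hq', hqq⟩ := hcle hq
      have : q' = t q := (j ⁻¹ᵁ V).ι.isOpenEmbedding.injective
        (hqq.trans ((congrArg (fun f => f q) ht).symm.trans (Scheme.Hom.comp_apply _ _ q)))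
      rw [this] at hq'
      exact hq'
    obtain ⟨β, hβ⟩ := Spec.map_surjective (IsOpenImmersion.lift hW.fromSpec (t ≫ ρ) hrW)
    letI := (g.appLE U.1 W hWU).hom.toAlgebra
    have hcomm : g.appLE U.1 W hWU ≫ β = φ ≫ CommRingCat.ofHom (algebraMap C (Localization.Away c)) := by
      apply Spec.map_injective
      rw [Spec.map_comp, Spec.map_comp, hβ, ← cancel_mono U.2.fromSpec, Category.assoc, Category.assoc,
        IsAffineOpen.SpecMap_appLE_fromSpec g U.2 hW hWU, IsOpenImmersion.lift_fac_assoc, Category.assoc, hρ,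
        reassoc_of% ht]
    exact ⟨c, W, hW, hWU, hpc,
      { β.hom with
        commutes' := fun a => by
          show (g.appLE U.1 W hWU ≫ β).hom a = _
          rw [hcomm]
          exact (IsScalarTower.algebraMap_apply Γ(S, U.1) C (Localization.Away c) a).symm }, trivial⟩
  choose c W hW hWU hpc γ _ using hsmall
  obtain ⟨t, ht⟩ := (isCompact_univ (X := PrimeSpectrum C)).elim_finite_subcover
    (fun p : Spec C => (PrimeSpectrum.basicOpen (c p) : Set (PrimeSpectrum C)))
    (fun p => (PrimeSpectrum.basicOpen (c p)).2) fun p _ => Set.mem_iUnion.2 ⟨p, hpc p⟩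
  let e := t.equivFin
  let q : Fin t.card → Spec C := fun k => (e.symm k : Spec C)
  letI algD : ∀ k, Algebra Γ(S, U.1) Γ(X, W (q k)) := fun k => (g.appLE U.1 (W (q k)) (hWU (q k))).hom.toAlgebra
  haveI : ∀ k, Algebra.FinitePresentation Γ(S, U.1) Γ(X, W (q k)) := fun k =>
    HasRingHomProperty.appLE @LocallyOfFinitePresentation g ‹_› U ⟨_, hW (q k)⟩ (hWU (q k))
  have hunit : Ideal.span (Set.range fun k => c (q k)) = ⊤ := by
    by_contra h
    obtain ⟨M, hM, hle⟩ := Ideal.exists_le_maximal _ h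
    obtain ⟨p, hp, hpM⟩ := Set.mem_iUnion₂.1 (ht (Set.mem_univ (⟨M, hM.isPrime⟩ : PrimeSpectrum C)))
    exact hpM (hle (Ideal.subset_span ⟨e ⟨p, hp⟩, by simp [q]⟩))
  obtain ⟨B, _, _, _, _, ψ, b, -, hb, hlift⟩ :=
    exists_finite_fp_spread (fun k => c (q k)) hunit (fun k => Γ(X, W (q k))) (fun k => γ (q k))
  let z : Γ(S, U.1) ⟶ CommRingCat.of B := CommRingCat.ofHom (algebraMap Γ(S, U.1) B)
  have hsur : Surjective (Spec.map z) := by
    refine ⟨fun p => ?_⟩
    haveI : p.asIdeal.IsPrime := p.2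
    obtain ⟨x, hx⟩ := (Spec.map φ).surjective p
    refine ⟨Spec.map (CommRingCat.ofHom ψ.toRingHom) x, ?_⟩
    have hcomp : z ≫ CommRingCat.ofHom ψ.toRingHom = φ := by
      ext a
      exact ψ.commutes a
    rw [← Scheme.Hom.comp_apply, ← Spec.map_comp, hcomp, hx]
  haveI : IsFinite (Spec.map z) := (IsFinite.SpecMap_iff _).2 (RingHom.finite_algebraMap.2 ‹_›)
  haveI : LocallyOfFinitePresentation (Spec.map z) :=
    (HasRingHomProperty.Spec_iff (P := @LocallyOfFinitePresentation)).2 (RingHom.finitePresentation_algebraMap.2 ‹_›)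
  refine ⟨CommRingCat.of B, Spec.map z ≫ U.2.isoSpec.inv, inferInstance, inferInstance, inferInstance, fun x _ => ?_⟩
  obtain ⟨k, hk⟩ : ∃ k, b k ∉ x.asIdeal := by
    by_contra h
    push Not at h
    exact x.2.ne_top (top_le_iff.1 (hb ▸ Ideal.span_le.2 (by rintro - ⟨k, rfl⟩; exact h k)))
  obtain ⟨δ⟩ := hlift k
  let i : Spec (CommRingCat.of (Localization.Away (b k))) ⟶ Spec (CommRingCat.of B) :=
    Spec.map (CommRingCat.ofHom (algebraMap B (Localization.Away (b k))))
  haveI : IsOpenImmersion i := IsOpenImmersion.of_isLocalization (b k)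
  refine ⟨i.opensRange, i.isoOpensRange.inv ≫ Spec.map (CommRingCat.ofHom δ.toRingHom) ≫ (hW (q k)).fromSpec,
    ?_, ?_⟩
  · show x ∈ Set.range i
    rw [show Set.range i = _ from PrimeSpectrum.localization_away_comap_range (Localization.Away (b k)) (b k)]
    exact hk
  · rw [Category.assoc, Category.assoc, ← IsAffineOpen.SpecMap_appLE_fromSpec g U.2 (hW (q k)) (hWU (q k)),
      ← Spec.map_comp_assoc, Category.assoc, IsAffineOpen.isoSpec_inv_ι,
      show g.appLE U.1 (W (q k)) (hWU (q k)) ≫ CommRingCat.ofHom δ.toRingHom =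
        z ≫ CommRingCat.ofHom (algebraMap B (Localization.Away (b k))) from ?_,
      Spec.map_comp_assoc, ← Scheme.Hom.isoOpensRange_inv_comp i, Category.assoc]
    ext a
    exact (δ.commutes a).trans (IsScalarTower.algebraMap_apply Γ(S, U.1) B (Localization.Away (b k)) a)

/-- Integral covers with local sections descend to finite finitely presented covers. -/
theorem exists_finite_cover {X S : Scheme.{u}} [CompactSpace S] [QuasiSeparatedSpace S] (g : X ⟶ S)
    [LocallyOfFinitePresentation g] [UniversallyOpen g] [Surjective g] :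
    ∃ (Z : Scheme.{u}) (π : Z ⟶ S), Surjective π ∧ IsFinite π ∧ LocallyOfFinitePresentation π ∧
      ∀ z : Z, ∃ (V : Z.Opens) (r : (V : Scheme.{u}) ⟶ X), z ∈ V ∧ r ≫ g = V.ι ≫ π := by
  classical
  have key : ∀ t : Finset S.affineOpens, ∃ (Z : Scheme.{u}) (π : Z ⟶ S), Surjective π ∧ IsFinite π ∧
      LocallyOfFinitePresentation π ∧ ∀ U ∈ t, HasLocalSections g π U.1 := by
    intro t
    induction t using Finset.induction_on with
    | empty => exact ⟨S, 𝟙 S, inferInstance, inferInstance, inferInstance, by simp⟩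
    | insert U t _ ih =>
      obtain ⟨Z, π, hs, hf, hp, hsec⟩ := ih
      obtain ⟨B, y, hys, hyf, hyp, hysec⟩ := exists_cover_affine g (proj S) (exists_local_section g) U
      haveI := hys
      haveI := hyf
      obtain ⟨Z', π', i, hi, hs', hf', hp'⟩ := exists_extend U.1 U.2.isCompact y
      haveI := hs; haveI := hf; haveI := hp; haveI := hs'; haveI := hf'; haveI := hp' hyp
      have hU : HasLocalSections g π' U.1 := by
        haveI : IsOpenImmersion i := MorphismProperty.of_isPullback (P := @IsOpenImmersion) hi.flip inferInstance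
        intro z hz
        obtain ⟨w, hw, -⟩ := Scheme.Pullback.exists_preimage_pullback (f := π') (g := U.1.ι) z ⟨π' z, hz⟩ rfl
        obtain ⟨x, hx⟩ : ∃ x, i x = z := ⟨hi.isoPullback.inv w, by
          rw [← Scheme.Hom.comp_apply, hi.isoPullback_inv_fst]; exact hw⟩
        obtain ⟨V, r, hxV, hr⟩ := hysec x (y x).2
        refine ⟨i ''ᵁ V, (i.isoImage V).inv ≫ r, ⟨x, hxV, hx⟩, ?_⟩
        rw [Category.assoc, hr, ← hi.w, ← Scheme.Hom.isoImage_inv_ι_assoc]
      refine ⟨pullback π π', pullback.snd π π' ≫ π', inferInstance, inferInstance, inferInstance, fun U' hU' => ?_⟩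
      rcases Finset.mem_insert.1 hU' with rfl | hU'
      · exact hU.comp _
      · rw [← pullback.condition]
        exact (hsec U' hU').comp _
  obtain ⟨t, ht⟩ := (isCompact_univ (X := S)).elim_finite_subcover (fun U : S.affineOpens => (U.1 : Set S))
    (fun U => U.1.2) fun s _ => by
      obtain ⟨U, hU, hsU, -⟩ := exists_isAffineOpen_mem_and_subset (x := s) (U := (⊤ : S.Opens)) trivial
      exact Set.mem_iUnion.2 ⟨⟨U, hU⟩, hsU⟩
  obtain ⟨Z, π, hs, hf, hp, hsec⟩ := key t
  refine ⟨Z, π, hs, hf, hp, fun z => ?_⟩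
  obtain ⟨U, hU, hzU⟩ := Set.mem_iUnion₂.1 (ht (Set.mem_univ (π z)))
  exact hsec U hU z hzU

end Groth.Agent.AICCover
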