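import Groth.Agent.AICCover.Ring

/-!
# Finite (finitely presented) models of integral algebras
-/

set_option autoImplicit false
set_option maxHeartbeats 800000
noncomputable section

universe u

open Polynomial

namespace Groth.Agent.AICCover

variable {A C : Type u} [CommRing A] [CommRing C] [Algebra A C]

/-- Finitely many integral elements lie in the image of a finite finitely presented algebra. -/
theorem exists_finite_fp_over [Algebra.IsIntegral A C] (F : Finset C) :
    ∃ (B : Type u) (_ : CommRing B) (_ : Algebra A B) (_ : Module.Finite A B)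
      (_ : Algebra.FinitePresentation A B) (ψ : B →ₐ[A] C),
      Function.Injective (algebraMap A B) ∧ ∀ c ∈ F, c ∈ ψ.range := by
  classical
  induction F using Finset.induction_on with
  | empty => exact ⟨A, inferInstance, inferInstance, inferInstance, inferInstance, Algebra.ofId A C,
      fun _ _ h => h, by simp⟩
  | insert c F _ ih =>
    obtain ⟨B, _, _, _, _, ψ, hBinj, hψ⟩ := ih
    obtain ⟨P₀, hP₀, hPc₀⟩ := Algebra.IsIntegral.isIntegral (R := A) c
    let P : A[X] := P₀ * X
    have hP : P.Monic := hP₀.mul monic_X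
    have hPc : eval₂ (algebraMap A C) c P = 0 := by rw [eval₂_mul, hPc₀, zero_mul]
    let P' := P.map (algebraMap A B)
    let χ : AdjoinRoot P' →ₐ[A] C := AdjoinRoot.liftAlgHom P' ψ c (by
      rw [eval₂_map]
      have : (ψ : B →+* C).comp (algebraMap A B) = algebraMap A C := ψ.comp_algebraMap
      rw [this]; exact hPc)
    haveI : Module.Finite B (AdjoinRoot P') := (hP.map (algebraMap A B)).finite_adjoinRoot
    haveI : Algebra.FinitePresentation B (AdjoinRoot P') := by
      unfold AdjoinRoot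
      exact Algebra.FinitePresentation.quotient (Submodule.fg_span_singleton P')
    haveI : Module.Finite A (AdjoinRoot P') := Module.Finite.trans B _
    haveI : Algebra.FinitePresentation A (AdjoinRoot P') := Algebra.FinitePresentation.trans A B _
    have hinj : Function.Injective (algebraMap A (AdjoinRoot P')) := by
      have e : ⇑(algebraMap A (AdjoinRoot P')) = ⇑(algebraMap B (AdjoinRoot P')) ∘ ⇑(algebraMap A B) :=
        funext fun x => IsScalarTower.algebraMap_apply A B (AdjoinRoot P') x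
      rw [e]
      refine Function.Injective.comp ?_ hBinj
      rw [injective_iff_map_eq_zero]
      intro z hz
      rw [AdjoinRoot.algebraMap_eq] at hz
      change AdjoinRoot.mk P' (Polynomial.C z) = 0 at hz
      rw [AdjoinRoot.mk_eq_zero] at hz
      by_contra hz0
      haveI : Nontrivial B := ⟨⟨z, 0, hz0⟩⟩
      haveI : Nontrivial A := (algebraMap A B).domain_nontrivial
      refine (hP.map (algebraMap A B)).not_dvd_of_degree_lt (Polynomial.C_ne_zero.2 hz0) ?_ hz
      rw [degree_eq_natDegree (hP.map _).ne_zero, hP.natDegree_map, degree_C hz0, hP₀.natDegree_mul monic_X,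
        natDegree_X]
      exact_mod_cast Nat.succ_pos _
    refine ⟨AdjoinRoot P', inferInstance, inferInstance, inferInstance, inferInstance, χ, hinj, fun e he => ?_⟩
    rcases Finset.mem_insert.1 he with rfl | he
    · exact ⟨AdjoinRoot.root P', by simp [χ]⟩
    · obtain ⟨b, hb⟩ := hψ e he
      exact ⟨algebraMap B (AdjoinRoot P') b, by simpa [χ] using hb⟩

/-- An algebra map which becomes bijective after inverting `r`. -/
theorem bijective_awayMap {B : Type u} [CommRing B] (ψ : B →+* C) (r : B)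
    (hsurj : ∀ c : C, ∃ (b : B) (n : ℕ), ψ r ^ n * c = ψ b)
    (hinj : ∀ b : B, ψ b = 0 → ∃ n : ℕ, r ^ n * b = 0) :
    Function.Bijective (Localization.awayMap ψ r) := by
  have hmap : ∀ b, Localization.awayMap ψ r (algebraMap B _ b) = algebraMap C (Localization.Away (ψ r)) (ψ b) :=
    fun b => IsLocalization.map_eq _ b
  have hu : ∀ n : ℕ, IsUnit (algebraMap C (Localization.Away (ψ r)) (ψ r ^ n)) := fun n =>
    IsLocalization.map_units _ (⟨_, n, rfl⟩ : Submonoid.powers (ψ r))
  constructor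
  · rw [injective_iff_map_eq_zero]
    intro x hx
    obtain ⟨⟨b, ⟨_, m, rfl⟩⟩, hb⟩ := IsLocalization.surj (Submonoid.powers r) x
    have h1 : algebraMap C (Localization.Away (ψ r)) (ψ b) = 0 := by
      rw [← hmap, ← hb, map_mul, hx, zero_mul]
    obtain ⟨⟨_, j, rfl⟩, hj⟩ := (IsLocalization.map_eq_zero_iff (Submonoid.powers (ψ r)) _ _).1 h1
    obtain ⟨n, hn⟩ := hinj (r ^ j * b) (by rw [map_mul, map_pow]; exact hj)
    have h2 : algebraMap B (Localization.Away r) b = 0 :=
      (IsLocalization.map_eq_zero_iff (Submonoid.powers r) _ _).2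
        ⟨⟨r ^ (n + j), n + j, rfl⟩, by show r ^ (n + j) * b = 0; rw [pow_add, mul_assoc]; exact hn⟩
    simp only at hb
    rw [h2] at hb
    exact (IsLocalization.map_units _ (⟨r ^ m, m, rfl⟩ : Submonoid.powers r)).mul_left_eq_zero.1 hb
  · intro y
    obtain ⟨⟨c, ⟨_, m, rfl⟩⟩, hc⟩ := IsLocalization.surj (Submonoid.powers (ψ r)) y
    obtain ⟨b, n, hb⟩ := hsurj c
    refine ⟨IsLocalization.mk' _ b (⟨r ^ (n + m), n + m, rfl⟩ : Submonoid.powers r), (hu (n + m)).mul_right_cancel ?_⟩
    have h1 : Localization.awayMap ψ r (IsLocalization.mk' _ b (⟨r ^ (n + m), n + m, rfl⟩ : Submonoid.powers r)) *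
        Localization.awayMap ψ r (algebraMap B _ (r ^ (n + m))) = Localization.awayMap ψ r (algebraMap B _ b) := by
      rw [← map_mul, IsLocalization.mk'_spec]
    rw [hmap, hmap, map_pow] at h1
    simp only at hc
    rw [h1, ← hb, map_mul, ← hc, pow_add, map_mul]
    ring

theorem awayMapₐ_algebraMap {B : Type u} [CommRing B] [Algebra A B] (ψ : B →ₐ[A] C) (r z : B) :
    Localization.awayMapₐ ψ r (algebraMap B (Localization.Away r) z) =
      algebraMap C (Localization.Away (ψ r)) (ψ z) := by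
  simp [Localization.awayMapₐ, IsLocalization.Away.mapₐ, IsLocalization.Away.map]

/-- Generators of a localisation, up to powers of the inverted element. -/
theorem exists_generators (r : A) (hfin : Algebra.FiniteType A (Localization.Away (algebraMap A C r))) :
    ∃ F : Finset C, ∀ c : C, ∃ (m : ℕ) (x : Algebra.adjoin A (F : Set C)), algebraMap A C r ^ m * c = x := by
  classical
  obtain ⟨s, hs⟩ := hfin.out
  choose num e he using fun z : Localization.Away (algebraMap A C r) =>
    IsLocalization.surj (Submonoid.powers (algebraMap A C r)) z |>.elim fun q hq =>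
      (⟨q.1, q.2, hq⟩ : ∃ (a : C) (e : Submonoid.powers (algebraMap A C r)),
        z * algebraMap C _ (e : C) = algebraMap C _ a)
  refine ⟨s.image num, fun c => ?_⟩
  let R₀ := Algebra.adjoin A ((s.image num : Finset C) : Set C)
  have hrm : ∀ m : ℕ, algebraMap A C r ^ m ∈ R₀ := fun m => pow_mem (R₀.algebraMap_mem _) m
  have key : ∀ z ∈ Algebra.adjoin A (s : Set (Localization.Away (algebraMap A C r))),
      ∃ (m : ℕ) (x : R₀), algebraMap C _ (algebraMap A C r ^ m) * z = algebraMap C _ (x : C) := by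
    intro z hz
    induction hz using Algebra.adjoin_induction with
    | mem z hz =>
      obtain ⟨m, hm⟩ := (e z).2
      refine ⟨m, ⟨num z, Algebra.subset_adjoin (Finset.mem_image_of_mem num hz)⟩, ?_⟩
      rw [mul_comm]
      simp only at hm
      rw [hm]; exact he z
    | algebraMap a => exact ⟨0, ⟨algebraMap A C a, R₀.algebraMap_mem a⟩, by
        rw [pow_zero, map_one, one_mul, ← IsScalarTower.algebraMap_apply]⟩
    | add z w _ _ h1 h2 =>
      obtain ⟨m1, x1, h1⟩ := h1
      obtain ⟨m2, x2, h2⟩ := h2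
      refine ⟨m1 + m2, ⟨_, add_mem (mul_mem (hrm m2) x1.2) (mul_mem (hrm m1) x2.2)⟩, ?_⟩
      simp only [map_add, map_mul]
      rw [← h1, ← h2, pow_add, map_mul]
      ring
    | mul z w _ _ h1 h2 =>
      obtain ⟨m1, x1, h1⟩ := h1
      obtain ⟨m2, x2, h2⟩ := h2
      refine ⟨m1 + m2, x1 * x2, ?_⟩
      rw [Subalgebra.coe_mul, map_mul _ (x1 : C) (x2 : C), ← h1, ← h2]
      simp only [pow_add, map_mul]
      ring
  obtain ⟨m, x, hx⟩ := key (algebraMap C _ c) (hs ▸ Algebra.mem_top)
  rw [← map_mul] at hx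
  obtain ⟨⟨_, j, rfl⟩, hj⟩ := (IsLocalization.eq_iff_exists (Submonoid.powers (algebraMap A C r)) _).1 hx
  refine ⟨j + m, ⟨_, mul_mem (hrm j) x.2⟩, ?_⟩
  show _ = algebraMap A C r ^ j * (x : C)
  rw [pow_add, mul_assoc]; exact hj

theorem surjective_awayMapₐ {B₀ : Type u} [CommRing B₀] [Algebra A B₀] (ψ : B₀ →ₐ[A] C) (r : B₀)
    (hsurj : ∀ c, ∃ (b : B₀) (m : ℕ), ψ r ^ m * c = ψ b) :
    Function.Surjective (Localization.awayMapₐ ψ r) := by
  intro y
  obtain ⟨⟨c, ⟨_, m, rfl⟩⟩, hc⟩ := IsLocalization.surj (Submonoid.powers (ψ r)) y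
  obtain ⟨b, n, hb⟩ := hsurj c
  have hmap := awayMapₐ_algebraMap ψ r
  refine ⟨IsLocalization.mk' _ b (⟨_, n + m, rfl⟩ : Submonoid.powers r),
    (IsLocalization.map_units (Localization.Away (ψ r))
      (⟨_, n + m, rfl⟩ : Submonoid.powers (ψ r))).mul_right_cancel ?_⟩
  have h1 := congrArg (Localization.awayMapₐ ψ r)
    (IsLocalization.mk'_spec (Localization.Away r) b
      (⟨_, n + m, rfl⟩ : Submonoid.powers r))
  rw [map_mul, hmap, hmap, map_pow] at h1
  simp only at hc
  simp only
  rw [h1, ← hb, map_mul, ← hc, pow_add, map_mul]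
  ring

/-- Finitely many elements of the kernel suffice after inverting `r`. -/
theorem exists_ker_finset {B₀ : Type u} [CommRing B₀] [Algebra A B₀] [Algebra.FinitePresentation A B₀]
    (ψ : B₀ →ₐ[A] C) (r : A) (hfp : Algebra.FinitePresentation A (Localization.Away (algebraMap A C r)))
    (hsurj : ∀ c, ∃ (b : B₀) (m : ℕ), ψ (algebraMap A B₀ r) ^ m * c = ψ b) :
    ∃ K : Finset B₀, (∀ x ∈ K, ψ x = 0) ∧
      ∀ b : B₀, ψ b = 0 → ∃ m : ℕ, algebraMap A B₀ r ^ m * b ∈ Ideal.span (K : Set B₀) := by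
  classical
  haveI : Algebra.FinitePresentation A (Localization.Away (ψ (algebraMap A B₀ r))) := by
    rw [ψ.commutes]; exact hfp
  haveI : Algebra.FinitePresentation A (Localization.Away (algebraMap A B₀ r)) :=
    haveI := IsLocalization.Away.finitePresentation (algebraMap A B₀ r)
      (S := Localization.Away (algebraMap A B₀ r))
    .trans A B₀ _
  obtain ⟨G, hG⟩ := Algebra.FinitePresentation.ker_fG_of_surjective _ (surjective_awayMapₐ ψ _ hsurj)
  have hy : ∀ y ∈ G, ∃ x : B₀, ψ x = 0 ∧ ∃ m : ℕ,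
      algebraMap B₀ (Localization.Away (algebraMap A B₀ r)) x =
        algebraMap B₀ _ (algebraMap A B₀ r ^ m) * y := by
    intro y hy
    obtain ⟨⟨a, ⟨_, m, rfl⟩⟩, ha⟩ := IsLocalization.surj (Submonoid.powers (algebraMap A B₀ r)) y
    simp only at ha
    have h0 : Localization.awayMapₐ ψ (algebraMap A B₀ r) y = 0 :=
      RingHom.mem_ker.1 (hG ▸ Ideal.subset_span hy)
    have h1 := congrArg (Localization.awayMapₐ ψ (algebraMap A B₀ r)) ha
    rw [map_mul, h0, zero_mul] at h1
    have h2 : algebraMap C (Localization.Away (ψ (algebraMap A B₀ r))) (ψ a) = 0 :=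
      (awayMapₐ_algebraMap ψ _ a).symm.trans h1.symm
    obtain ⟨⟨_, j, rfl⟩, hj⟩ := (IsLocalization.map_eq_zero_iff
      (Submonoid.powers (ψ (algebraMap A B₀ r))) _ _).1 h2
    refine ⟨algebraMap A B₀ r ^ j * a, by rw [map_mul, map_pow]; exact hj, j + m, ?_⟩
    rw [map_mul, ← ha, pow_add, map_mul]
    ring
  choose x hx m hm using hy
  refine ⟨G.attach.image fun y => x y.1 y.2, ?_, fun b hb => ?_⟩
  · intro z hz
    obtain ⟨y, -, rfl⟩ := Finset.mem_image.1 hz
    exact hx _ _
  have hmem : algebraMap B₀ (Localization.Away (algebraMap A B₀ r)) b ∈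
      (Ideal.span ((G.attach.image fun y => x y.1 y.2 : Finset B₀) : Set B₀)).map (algebraMap B₀ _) := by
    have h1 : algebraMap B₀ (Localization.Away (algebraMap A B₀ r)) b ∈
        Ideal.span (G : Set (Localization.Away (algebraMap A B₀ r))) := by
      rw [show Ideal.span (G : Set (Localization.Away (algebraMap A B₀ r))) = _ from hG]
      exact RingHom.mem_ker.2 ((awayMapₐ_algebraMap ψ _ b).trans (by
        show algebraMap C _ (ψ b) = 0
        rw [hb, map_zero]))
    refine (Ideal.span_le.2 fun y hy => ?_) h1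
    have hu : IsUnit (algebraMap B₀ (Localization.Away (algebraMap A B₀ r)) (algebraMap A B₀ r ^ m y hy)) :=
      IsLocalization.map_units _ (⟨_, m y hy, rfl⟩ : Submonoid.powers (algebraMap A B₀ r))
    refine (Ideal.unit_mul_mem_iff_mem _ hu).1 ?_
    rw [← hm y hy]
    exact Ideal.mem_map_of_mem _ (Ideal.subset_span
      (Finset.mem_coe.2 (Finset.mem_image.2 ⟨⟨y, hy⟩, Finset.mem_attach _ _, rfl⟩)))
  obtain ⟨⟨⟨z, hz⟩, ⟨_, j, rfl⟩⟩, hzj⟩ := (IsLocalization.mem_map_algebraMap_iff
    (Submonoid.powers (algebraMap A B₀ r)) _).1 hmem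
  simp only [← map_mul] at hzj
  obtain ⟨⟨_, l, rfl⟩, hl⟩ := (IsLocalization.eq_iff_exists
    (Submonoid.powers (algebraMap A B₀ r)) _).1 hzj
  refine ⟨l + j, ?_⟩
  rw [pow_add, mul_assoc, mul_comm _ b]
  simp only at hl
  rw [hl]
  exact Ideal.mul_mem_left _ _ hz

/-- The finite models: finite algebras with the same localisations at given elements, surjective on spectra. -/
theorem exists_finite_model [Algebra.IsIntegral A C] {n : ℕ} (r : Fin n → A)
    (hfin : ∀ i, Algebra.FiniteType A (Localization.Away (algebraMap A C (r i))))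
    (hsur : ∀ p : PrimeSpectrum A, (∃ i, r i ∉ p.asIdeal) → RingHom.ker (algebraMap A C) ≤ p.asIdeal) :
    ∃ (B : Type u) (_ : CommRing B) (_ : Algebra A B) (_ : Module.Finite A B) (ψ : B →ₐ[A] C),
      (∀ i, Function.Bijective (Localization.awayMap (ψ : B →+* C) (algebraMap A B (r i)))) ∧
      Function.Surjective (PrimeSpectrum.comap (algebraMap A B)) ∧
      ((∀ i, Algebra.FinitePresentation A (Localization.Away (algebraMap A C (r i)))) →
        Algebra.FinitePresentation A B) := by
  classical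
  choose F hF using fun i => exists_generators (r i) (hfin i)
  obtain ⟨B₀, _, _, _, _, ψ, hB₀, hψ⟩ := exists_finite_fp_over (A := A) (Finset.univ.biUnion F)
  have hsurj : ∀ i c, ∃ (b : B₀) (m : ℕ), ψ (algebraMap A B₀ (r i)) ^ m * c = ψ b := by
    intro i c
    obtain ⟨m, x, hx⟩ := hF i c
    have hle : Algebra.adjoin A (F i : Set C) ≤ ψ.range :=
      Algebra.adjoin_le fun c hc => hψ c (Finset.mem_biUnion.2 ⟨i, Finset.mem_univ _, hc⟩)
    obtain ⟨b, hb⟩ := hle x.2
    exact ⟨b, m, by rw [ψ.commutes, hx]; exact hb.symm⟩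
  -- the kernel
  have hI : ∃ I : Ideal B₀, I ≤ RingHom.ker ψ ∧
      (∀ i, ∀ b : B₀, ψ b = 0 → ∃ m : ℕ, algebraMap A B₀ (r i) ^ m * b ∈ I) ∧
      ((∀ i, Algebra.FinitePresentation A (Localization.Away (algebraMap A C (r i)))) → I.FG) := by
    by_cases hfp : ∀ i, Algebra.FinitePresentation A (Localization.Away (algebraMap A C (r i)))
    · choose K hK0 hK using fun i => exists_ker_finset ψ (r i) (hfp i) (hsurj i)
      refine ⟨Ideal.span ((Finset.univ.biUnion K : Finset B₀) : Set B₀), Ideal.span_le.2 fun x hx => ?_,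
        fun i b hb => ?_, fun _ => ⟨_, rfl⟩⟩
      · obtain ⟨i, -, hxi⟩ := Finset.mem_biUnion.1 (Finset.mem_coe.1 hx)
        exact hK0 i x hxi
      · obtain ⟨m, hm⟩ := hK i b hb
        exact ⟨m, Ideal.span_mono (fun x hx => Finset.mem_coe.2
          (Finset.mem_biUnion.2 ⟨i, Finset.mem_univ _, Finset.mem_coe.1 hx⟩)) hm⟩
    · exact ⟨RingHom.ker ψ, le_rfl, fun i b hb => ⟨0, by simpa using hb⟩, fun h => absurd h hfp⟩
  obtain ⟨I, hIker, hIinj, hIfg⟩ := hI
  -- the model: `V(I) ∪ V(r)`
  let J : Ideal B₀ := Ideal.span (Set.range fun i => algebraMap A B₀ (r i))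
  obtain ⟨T, hT⟩ : ∃ T : Ideal B₀, T = J * I := ⟨_, rfl⟩
  have hTI : T ≤ I := hT ▸ Ideal.mul_le_right
  have hTJ : T ≤ J := hT ▸ Ideal.mul_le_left
  haveI : Module.Finite A (B₀ ⧸ T) :=
    Module.Finite.of_surjective (Ideal.Quotient.mkₐ A T).toLinearMap Ideal.Quotient.mk_surjective
  let χ : (B₀ ⧸ T) →ₐ[A] C := Ideal.Quotient.liftₐ T ψ fun x hx =>
    RingHom.mem_ker.1 (hIker (hTI hx))
  refine ⟨B₀ ⧸ T, inferInstance, inferInstance, inferInstance, χ, fun i => ?_, fun p => ?_, fun hfp => ?_⟩
  · refine bijective_awayMap _ _ (fun c => ?_) fun z hz => ?_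
    · obtain ⟨b, m, hb⟩ := hsurj i c
      refine ⟨Ideal.Quotient.mk T b, m, ?_⟩
      show χ (algebraMap A _ (r i)) ^ m * c = ψ b
      rw [χ.commutes, ← ψ.commutes]; exact hb
    · obtain ⟨z, rfl⟩ := Ideal.Quotient.mk_surjective z
      obtain ⟨m, hm⟩ := hIinj i z hz
      refine ⟨m + 1, ?_⟩
      rw [← Ideal.Quotient.mk_algebraMap, ← map_pow, ← map_mul, pow_succ', mul_assoc]
      exact Ideal.Quotient.eq_zero_iff_mem.2 (hT ▸ Ideal.mul_mem_mul (Ideal.subset_span ⟨i, rfl⟩) hm)
  · haveI := p.2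
    have hker : RingHom.ker (algebraMap A (B₀ ⧸ T)) ≤ p.asIdeal := by
      intro a ha
      by_cases hp : ∃ i, r i ∉ p.asIdeal
      · refine hsur p hp ?_
        show algebraMap A C a = 0
        rw [← χ.commutes, show algebraMap A (B₀ ⧸ T) a = 0 from ha, map_zero]
      · push Not at hp
        obtain ⟨Q, -, hQ, hQp⟩ := Ideal.exists_ideal_over_prime_of_isIntegral p.asIdeal (⊥ : Ideal B₀)
          (fun x hx => by
            have : x = 0 := hB₀ (by rw [map_zero]; exact hx)
            rw [this]; exact zero_mem _)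
        have hJ : J ≤ Q := Ideal.span_le.2 (by
          rintro _ ⟨i, rfl⟩
          show r i ∈ Q.comap (algebraMap A B₀)
          rw [hQp]; exact hp i)
        have h1 : algebraMap A B₀ a ∈ T := Ideal.Quotient.eq_zero_iff_mem.1 ha
        rw [← hQp]
        exact hJ (hTJ h1)
    obtain ⟨Q, -, hQ, hQp⟩ := Ideal.exists_ideal_over_prime_of_isIntegral p.asIdeal
      (⊥ : Ideal (B₀ ⧸ T)) hker
    exact ⟨⟨Q, hQ⟩, PrimeSpectrum.ext hQp⟩
  · exact Algebra.FinitePresentation.quotient (hT ▸ (Submodule.fg_span (Set.finite_range _)).mul (hIfg hfp))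

/-- Elements and maps into localisations descend to a finite finitely presented model. -/
theorem exists_finite_fp_spread [Algebra.IsIntegral A C] {n : ℕ} (c : Fin n → C)
    (hc : Ideal.span (Set.range c) = ⊤) (D : Fin n → Type u) [∀ i, CommRing (D i)] [∀ i, Algebra A (D i)]
    [∀ i, Algebra.FinitePresentation A (D i)] (γ : ∀ i, D i →ₐ[A] Localization.Away (c i)) :
    ∃ (B : Type u) (_ : CommRing B) (_ : Algebra A B) (_ : Module.Finite A B)
      (_ : Algebra.FinitePresentation A B) (ψ : B →ₐ[A] C) (b : Fin n → B),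
      (∀ i, ψ (b i) = c i) ∧ Ideal.span (Set.range b) = ⊤ ∧
      ∀ i, Nonempty (D i →ₐ[A] Localization.Away (b i)) := by
  classical
  choose k π hπ hker using fun i => (inferInstance : Algebra.FinitePresentation A (D i)).out
  choose G hG using hker
  choose num e hnum using fun (i : Fin n) (j : Fin (k i)) =>
    IsLocalization.Away.surj (c i) (γ i (π i (MvPolynomial.X j)))
  rw [Ideal.eq_top_iff_one, Ideal.mem_span_range_iff_exists_fun] at hc
  obtain ⟨l, hl⟩ := hc
  obtain ⟨B₀, _, _, _, _, ψ, -, hψ⟩ := exists_finite_fp_over (A := A)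
    (Finset.univ.image c ∪ Finset.univ.image l ∪ (Finset.univ.biUnion fun i => Finset.univ.image (e i)))
  have hb : ∀ i, ∃ b, ψ b = c i := fun i => hψ _ (by simp)
  have hl' : ∀ i, ∃ b, ψ b = l i := fun i => hψ _ (by simp)
  have he : ∀ i j, ∃ b, ψ b = e i j := fun i j => hψ _ (by simp only [Finset.mem_union, Finset.mem_biUnion, Finset.mem_image, Finset.mem_univ, true_and]; exact Or.inr ⟨i, j, rfl⟩)
  choose b hb using hb
  choose l' hl' using hl'
  choose e' he' using he
  let v : ∀ i, Fin (k i) → Localization.Away (b i) := fun i j =>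
    IsLocalization.mk' _ (e' i j) (⟨_, num i j, rfl⟩ : Submonoid.powers (b i))
  have hmap : ∀ (i : Fin n) (z : B₀), Localization.awayMapₐ ψ (b i) (algebraMap B₀ _ z) =
      algebraMap C (Localization.Away (ψ (b i))) (ψ z) := fun i z => awayMapₐ_algebraMap ψ _ z
  have hkill : ∀ i, ∀ F ∈ G i, ∃ x : B₀, ψ x = 0 ∧ ∃ m : ℕ,
      algebraMap B₀ (Localization.Away (b i)) x =
        algebraMap B₀ _ (b i ^ m) * MvPolynomial.aeval (v i) F := by
    intro i F hF
    obtain ⟨m, a, ha⟩ := IsLocalization.Away.surj (b i) (MvPolynomial.aeval (v i) F)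
    have hzero : MvPolynomial.aeval (fun j => Localization.awayMapₐ ψ (b i) (v i j)) F = 0 := by
      let θ : Localization.Away (c i) →ₐ[A] Localization.Away (ψ (b i)) := IsLocalization.liftAlgHom
        (M := Submonoid.powers (c i)) (f := IsScalarTower.toAlgHom A C _) (by
          rintro ⟨_, m, rfl⟩
          show IsUnit (algebraMap C (Localization.Away (ψ (b i))) (c i ^ m))
          exact IsLocalization.map_units _ (⟨c i ^ m, m, by rw [hb]⟩ : Submonoid.powers (ψ (b i))))
      have hθ : ∀ z, θ (algebraMap C _ z) = algebraMap C _ z := fun z => by simp [θ]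
      have hv : (fun j => Localization.awayMapₐ ψ (b i) (v i j)) = fun j => θ (γ i (π i (MvPolynomial.X j))) := by
        funext j
        refine (IsLocalization.map_units (Localization.Away (ψ (b i)))
          (⟨_, num i j, rfl⟩ : Submonoid.powers (ψ (b i)))).mul_right_cancel ?_
        have h1 := congrArg θ (hnum i j)
        rw [map_mul, map_pow, hθ, hθ, ← map_pow] at h1
        have h2 := congrArg (Localization.awayMapₐ ψ (b i)) (IsLocalization.mk'_spec (Localization.Away (b i))
          (e' i j) (⟨_, num i j, rfl⟩ : Submonoid.powers (b i)))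
        rw [map_mul, hmap, hmap, map_pow, he'] at h2
        have hcb : algebraMap C (Localization.Away (ψ (b i))) (ψ (b i) ^ num i j) = algebraMap C _ (c i ^ num i j) :=
          congrArg (fun z => algebraMap C (Localization.Away (ψ (b i))) (z ^ num i j)) (hb i)
        simp only
        rw [h2, hcb, h1]
      rw [hv, show (fun j => θ (γ i (π i (MvPolynomial.X j)))) = fun j => (θ.comp ((γ i).comp (π i))) (MvPolynomial.X j) from rfl]
      refine (DFunLike.congr_fun (MvPolynomial.aeval_unique (θ.comp ((γ i).comp (π i)))) F).symm.trans ?_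
      show θ (γ i (π i F)) = 0
      rw [show π i F = 0 from RingHom.mem_ker.1 (hG i ▸ Ideal.subset_span hF), map_zero, map_zero]
    have h1 := congrArg (Localization.awayMapₐ ψ (b i)) ha
    rw [map_mul, MvPolynomial.comp_aeval_apply, hzero, zero_mul, hmap] at h1
    obtain ⟨⟨_, j, rfl⟩, hj⟩ := (IsLocalization.map_eq_zero_iff (Submonoid.powers (ψ (b i))) _ _).1 h1.symm
    refine ⟨b i ^ j * a, by rw [map_mul, map_pow]; exact hj, j + m, ?_⟩
    rw [map_mul, ← ha, pow_add, map_mul, map_pow, map_pow]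
    ring
  choose x hx0 mx hmx using hkill
  let one' : B₀ := ∑ i, l' i * b i - 1
  let K : Finset B₀ := insert one' (Finset.univ.biUnion fun i => (G i).attach.image fun F => x i F.1 F.2)
  have hK : ∀ z ∈ K, ψ z = 0 := by
    intro z hz
    rcases Finset.mem_insert.1 hz with rfl | hz
    · simp [one', hl', hb, hl]
    · obtain ⟨i, -, hz⟩ := Finset.mem_biUnion.1 hz
      obtain ⟨F, -, rfl⟩ := Finset.mem_image.1 hz
      exact hx0 _ _ _
  let I : Ideal B₀ := Ideal.span (K : Set B₀)
  haveI : Module.Finite A (B₀ ⧸ I) := Module.Finite.of_surjective (Ideal.Quotient.mkₐ A I).toLinearMap Ideal.Quotient.mk_surjective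
  haveI : Algebra.FinitePresentation A (B₀ ⧸ I) := Algebra.FinitePresentation.quotient ⟨K, rfl⟩
  let ψ' : (B₀ ⧸ I) →ₐ[A] C := Ideal.Quotient.liftₐ I ψ fun z hz =>
    RingHom.mem_ker.1 ((Ideal.span_le (I := RingHom.ker ψ)).2 (fun z hz => RingHom.mem_ker.2 (hK z hz)) hz)
  refine ⟨B₀ ⧸ I, inferInstance, inferInstance, inferInstance, inferInstance, ψ',
    fun i => Ideal.Quotient.mk I (b i), fun i => hb i, ?_, fun i => ?_⟩
  · rw [Ideal.eq_top_iff_one, Ideal.mem_span_range_iff_exists_fun]
    refine ⟨fun i => Ideal.Quotient.mk I (l' i), ?_⟩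
    have h0 : Ideal.Quotient.mk I one' = 0 :=
      Ideal.Quotient.eq_zero_iff_mem.2 (Ideal.subset_span (Finset.mem_coe.2 (Finset.mem_insert_self _ _)))
    simpa [one', sub_eq_zero] using h0
  · let q := Localization.awayMapₐ (Ideal.Quotient.mkₐ A I) (b i)
    have hle : RingHom.ker (π i) ≤ RingHom.ker (q.comp (MvPolynomial.aeval (v i))) := by
      refine (hG i).symm.trans_le (Ideal.span_le.2 fun F hF => RingHom.mem_ker.2 ?_)
      have h1 := congrArg q (hmx i F hF)
      have hq : ∀ z : B₀, q (algebraMap B₀ _ z) = algebraMap _ _ (Ideal.Quotient.mk I z) := fun z => awayMapₐ_algebraMap _ _ z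
      rw [map_mul, hq, hq] at h1
      have hx' : Ideal.Quotient.mk I (x i F hF) = 0 := Ideal.Quotient.eq_zero_iff_mem.2
        (Ideal.subset_span (Finset.mem_coe.2 (Finset.mem_insert_of_mem (Finset.mem_biUnion.2
          ⟨i, Finset.mem_univ _, Finset.mem_image.2 ⟨⟨F, hF⟩, Finset.mem_attach _ _, rfl⟩⟩))))
      rw [hx', map_zero, map_pow] at h1
      exact (IsLocalization.map_units _ (⟨_, mx i F hF, rfl⟩ : Submonoid.powers (Ideal.Quotient.mkₐ A I (b i)))).mul_right_eq_zero.1 h1.symm
    let q' : (MvPolynomial (Fin (k i)) A ⧸ RingHom.ker (π i)) →ₐ[A] Localization.Away (Ideal.Quotient.mk I (b i)) :=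
      Ideal.Quotient.liftₐ (RingHom.ker (π i)) (q.comp (MvPolynomial.aeval (v i))) fun z hz => RingHom.mem_ker.1 (hle hz)
    exact ⟨q'.comp (Ideal.quotientKerAlgEquivOfSurjective (hπ i)).symm.toAlgHom⟩

end Groth.Agent.AICCover
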