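import Groth.Agent.AICCover.Space
import Groth.Agent.SlicePt.Nhd

/-!
# Local sections of universally open surjective morphisms on the cover
-/

set_option autoImplicit false
noncomputable section

universe u

open CategoryTheory AlgebraicGeometry Limits Opposite Scheme TopologicalSpace
open AlgebraicGeometry.Scheme AffineZariskiSite
open Groth.Agent.SubtrLib (IsAIC)

namespace Groth.Agent.AICCover

theorem exists_hom_section {O : Type u} [CommRing O] {B : CommRingCat.{u}} (φ : CommRingCat.of O ⟶ B)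
    (h : letI := φ.hom.toAlgebra; Nonempty (B →ₐ[O] O)) :
    ∃ σ : Spec (CommRingCat.of O) ⟶ Spec B, σ ≫ Spec.map φ = 𝟙 _ := by
  letI := φ.hom.toAlgebra
  obtain ⟨χ⟩ := h
  refine ⟨Spec.map (CommRingCat.ofHom χ.toRingHom), ?_⟩
  rw [← Spec.map_comp, ← Spec.map_id]
  congr 1
  ext a
  exact χ.commutes a

/-- Sections over absolutely integrally closed local domains. -/
theorem exists_section {X : Scheme.{u}} {O : Type u} [CommRing O] [IsDomain O] [IsLocalRing O] (hO : IsAIC O)
    (f : X ⟶ Spec (CommRingCat.of O)) [LocallyOfFinitePresentation f] [UniversallyOpen f] [Surjective f] :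
    ∃ a : Spec (CommRingCat.of O) ⟶ X, a ≫ f = 𝟙 _ := by
  obtain ⟨x, hx⟩ := f.surjective (IsLocalRing.closedPoint O)
  haveI : UniversallyOpen ((⊤ : X.Opens).ι ≫ f) := inferInstance
  obtain ⟨S', S'', w, π, h, hS', hw, hfin, hsur, -, hcomp, s₀, -, hs₀, -, -, -⟩ :=
    SlicePt.exists_quasiSection_nhd f ⊤ (IsLocalRing.closedPoint O) ⟨x, trivial, hx⟩
  haveI := hS'
  haveI := hw
  haveI := hfin
  haveI := hsur
  -- a section of the etale neighbourhood
  obtain ⟨φ, hφ⟩ := Spec.map_surjective (S'.isoSpec.inv ≫ w)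
  haveI : Etale (Spec.map φ) := by rw [hφ]; infer_instance
  letI := φ.hom.toAlgebra
  haveI : Algebra.Etale O Γ(S', ⊤) := RingHom.etale_algebraMap.mp ((HasRingHomProperty.Spec_iff (P := @Etale)).mp ‹_›)
  have hs : (π ≫ w) s₀ = IsLocalRing.closedPoint O := by
    have : s₀ ∈ (π ≫ w).base ⁻¹' {IsLocalRing.closedPoint O} := hs₀ ▸ Set.mem_singleton s₀
    exact this
  let q := S'.isoSpec.hom (π s₀)
  have hq : q.asIdeal.comap (algebraMap O Γ(S', ⊤)) = IsLocalRing.maximalIdeal O := by
    have h1 : Spec.map φ q = IsLocalRing.closedPoint O := by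
      rw [hφ, ← Scheme.Hom.comp_apply, Iso.hom_inv_id_assoc, ← hs, Scheme.Hom.comp_apply]
    exact congrArg PrimeSpectrum.asIdeal h1
  haveI : q.asIdeal.IsPrime := q.2
  obtain ⟨σ', hσ'⟩ := exists_hom_section φ (exists_algHom_of_etale hO q.asIdeal hq)
  let σ := σ' ≫ S'.isoSpec.inv
  have hσ : σ ≫ w = 𝟙 _ := by rw [Category.assoc, ← hφ, hσ']
  -- a section of the finite cover
  let P := pullback π σ
  haveI : IsAffine P := isAffine_of_isAffineHom (pullback.snd π σ)
  obtain ⟨ψ, hψ⟩ := Spec.map_surjective (P.isoSpec.inv ≫ pullback.snd π σ)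
  haveI : IsIntegralHom (Spec.map ψ) := by rw [hψ]; infer_instance
  haveI : Surjective (Spec.map ψ) := by rw [hψ]; infer_instance
  letI := ψ.hom.toAlgebra
  haveI : Algebra.IsIntegral O Γ(P, ⊤) := algebraMap_isIntegral_iff.mp (IsIntegralHom.SpecMap_iff.mp ‹_›)
  obtain ⟨z, hz⟩ := (Spec.map ψ).surjective (⟨⊥, Ideal.isPrime_bot⟩ : PrimeSpectrum O)
  haveI : z.asIdeal.IsPrime := z.2
  obtain ⟨τ', hτ'⟩ := exists_hom_section ψ (exists_algHom_of_integral hO z.asIdeal (congrArg PrimeSpectrum.asIdeal hz))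
  refine ⟨τ' ≫ P.isoSpec.inv ≫ pullback.fst π σ ≫ h, ?_⟩
  simp only [Category.assoc]
  rw [hcomp, pullback.condition_assoc, hσ, Category.comp_id, ← hψ, hτ']

theorem exists_section_base {X S : Scheme.{u}} {O : Type u} [CommRing O] [IsDomain O] [IsLocalRing O] (hO : IsAIC O)
    (g : X ⟶ S) [LocallyOfFinitePresentation g] [UniversallyOpen g] [Surjective g]
    (t : Spec (CommRingCat.of O) ⟶ S) : ∃ a : Spec (CommRingCat.of O) ⟶ X, a ≫ g = t := by
  haveI : LocallyOfFinitePresentation (pullback.snd g t) := inferInstance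
  haveI : UniversallyOpen (pullback.snd g t) := inferInstance
  obtain ⟨a, ha⟩ := exists_section hO (pullback.snd g t)
  exact ⟨a ≫ pullback.fst g t, by rw [Category.assoc, pullback.condition, reassoc_of% ha]⟩

/-- Sections on a local ring spread out to a basic open. -/
theorem exists_spread_scheme {X S : Scheme.{u}} (g : X ⟶ S) [LocallyOfFinitePresentation g]
    {C : Type u} [CommRing C] (t : Spec (CommRingCat.of C) ⟶ S) (Q : Ideal C) [Q.IsPrime]
    (a : Spec (CommRingCat.of (Localization.AtPrime Q)) ⟶ X)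
    (ha : a ≫ g = Spec.map (CommRingCat.ofHom (algebraMap C (Localization.AtPrime Q))) ≫ t)
    (U : S.Opens) (hU : IsAffineOpen U) (hUt : Set.range t ⊆ (U : Set S)) :
    ∃ c ∉ Q, ∃ b : Spec (CommRingCat.of (Localization.Away c)) ⟶ X,
      b ≫ g = Spec.map (CommRingCat.ofHom (algebraMap C (Localization.Away c))) ≫ t := by
  let t' : Spec (CommRingCat.of C) ⟶ Spec Γ(S, U) :=
    IsOpenImmersion.lift hU.fromSpec t (by rwa [hU.range_fromSpec])
  have ht' : t' ≫ hU.fromSpec = t := IsOpenImmersion.lift_fac _ _ _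
  let x := a (IsLocalRing.closedPoint (Localization.AtPrime Q))
  have hxU : g x ∈ U := by
    show (a ≫ g) (IsLocalRing.closedPoint (Localization.AtPrime Q)) ∈ U
    rw [ha]
    exact hUt ⟨_, rfl⟩
  obtain ⟨V, hV, hxV, hVU⟩ := exists_isAffineOpen_mem_and_subset (x := x) (U := g ⁻¹ᵁ U) hxU
  let a' : Spec (CommRingCat.of (Localization.AtPrime Q)) ⟶ Spec Γ(X, V) :=
    IsOpenImmersion.lift hV.fromSpec a (by
      rw [hV.range_fromSpec]
      rintro - ⟨p, rfl⟩
      exact ((IsLocalRing.specializes_closedPoint p).map a.continuous).mem_open V.2 hxV)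
  have ha' : a' ≫ hV.fromSpec = a := IsOpenImmersion.lift_fac _ _ _
  let φ := g.appLE U V hVU
  have hφ : Spec.map φ ≫ hU.fromSpec = hV.fromSpec ≫ g := IsAffineOpen.SpecMap_appLE_fromSpec g hU hV hVU
  obtain ⟨α, hα⟩ := Spec.map_surjective t'
  obtain ⟨β, hβ⟩ := Spec.map_surjective a'
  have hcomm : φ ≫ β = α ≫ CommRingCat.ofHom (algebraMap C (Localization.AtPrime Q)) := by
    apply Spec.map_injective
    rw [Spec.map_comp, Spec.map_comp, hα, hβ, ← cancel_mono hU.fromSpec, Category.assoc, Category.assoc, hφ,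
      ht', ← Category.assoc, ha', ha]
  letI := α.hom.toAlgebra
  letI := φ.hom.toAlgebra
  haveI : Algebra.FinitePresentation Γ(S, U) Γ(X, V) :=
    HasRingHomProperty.appLE @LocallyOfFinitePresentation g ‹_› ⟨U, hU⟩ ⟨V, hV⟩ hVU
  let βa : Γ(X, V) →ₐ[Γ(S, U)] Localization.AtPrime Q :=
    { β.hom with
      commutes' := fun r => by
        show (φ ≫ β).hom r = _
        rw [hcomm]
        exact (IsScalarTower.algebraMap_apply Γ(S, U) C (Localization.AtPrime Q) r).symm }
  obtain ⟨c, hc, ⟨γ⟩⟩ := exists_spread Q βa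
  refine ⟨c, hc, Spec.map (CommRingCat.ofHom γ.toRingHom) ≫ hV.fromSpec, ?_⟩
  rw [Category.assoc, ← hφ, ← ht', ← hα, ← Category.assoc, ← Category.assoc, ← Spec.map_comp, ← Spec.map_comp]
  congr 2
  ext r
  exact (γ.commutes r).trans (IsScalarTower.algebraMap_apply Γ(S, U) C (Localization.Away c) r)

/-- The cover has Zariski local sections of every universally open surjective morphism. -/
theorem exists_local_section {X S : Scheme.{u}} (g : X ⟶ S) [LocallyOfFinitePresentation g] [UniversallyOpen g]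
    [Surjective g] (z : space S) :
    ∃ (V : (space S).Opens) (r : (V : Scheme.{u}) ⟶ X), z ∈ V ∧ r ≫ g = V.ι ≫ proj S := by
  obtain ⟨U, hU, hzU, -⟩ := exists_isAffineOpen_mem_and_subset (x := proj S z) (U := (⊤ : S.Opens)) trivial
  let U' : S.AffineZariskiSite := ⟨U, hU⟩
  let m : Spec (CommRingCat.of (ring S U)) ⟶ space S := (chart S).f U'
  haveI : IsOpenImmersion m := (chart S).map_prop U'
  have hm : m ≫ proj S = Spec.map (CommRingCat.ofHom (toRing S U)) ≫ hU.fromSpec := chart_proj S U'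
  obtain ⟨q, hq⟩ : z ∈ Set.range m := by
    have : z ∈ proj S ⁻¹ᵁ U'.1 := hzU
    rw [proj_preimage] at this
    exact this
  haveI : q.asIdeal.IsPrime := q.2
  haveI := isDomain_localization q.asIdeal (idemSplit_ring S U)
  obtain ⟨a, ha⟩ := exists_section_base (isAIC_localization q.asIdeal (isAIC_ring S U)) g
    (Spec.map (CommRingCat.ofHom (algebraMap (ring S U) (Localization.AtPrime q.asIdeal))) ≫ m ≫ proj S)
  obtain ⟨c, hc, b, hb⟩ := exists_spread_scheme g (m ≫ proj S) q.asIdeal a ha U hU (by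
    rintro - ⟨p, rfl⟩
    rw [hm, Scheme.Hom.comp_apply, ← hU.range_fromSpec]
    exact ⟨_, rfl⟩)
  let i : Spec (CommRingCat.of (Localization.Away c)) ⟶ space S :=
    Spec.map (CommRingCat.ofHom (algebraMap (ring S U) (Localization.Away c))) ≫ m
  haveI : IsOpenImmersion (Spec.map (CommRingCat.ofHom (algebraMap (ring S U) (Localization.Away c)))) :=
    IsOpenImmersion.of_isLocalization c
  haveI : IsOpenImmersion i := inferInstanceAs (IsOpenImmersion (_ ≫ m))
  refine ⟨i.opensRange, i.isoOpensRange.inv ≫ b, ?_, ?_⟩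
  · obtain ⟨q', hq'⟩ : q ∈ Set.range (PrimeSpectrum.comap (algebraMap (ring S U) (Localization.Away c))) := by
      rw [PrimeSpectrum.localization_away_comap_range _ c]; exact hc
    exact ⟨q', (congrArg m hq').trans hq⟩
  · rw [Category.assoc, hb, ← Category.assoc (Spec.map _) m, show Spec.map _ ≫ m = i from rfl,
      ← Category.assoc, Scheme.Hom.isoOpensRange_inv_comp]

/-- Universally open surjective morphisms of finite presentation are Zariski locally split by an
integral surjective morphism. -/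
theorem exists_integral_cover {X S : Scheme.{u}} (g : X ⟶ S) [LocallyOfFinitePresentation g] [UniversallyOpen g]
    [Surjective g] :
    ∃ (T : Scheme.{u}) (π : T ⟶ S), Surjective π ∧ IsIntegralHom π ∧
      ∀ z : T, ∃ (V : T.Opens) (r : (V : Scheme.{u}) ⟶ X), z ∈ V ∧ r ≫ g = V.ι ≫ π :=
  ⟨space S, proj S, inferInstance, inferInstance, exists_local_section g⟩

end Groth.Agent.AICCover
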