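import Groth.Agent.SubtrLib.AIC

/-!
# Rings with roots of all monic polynomials and split idempotents

Local rings of such rings are absolutely integrally closed domains; over these, etale algebras with a
point over the closed point and finite algebras with a point over the generic point have sections.
-/

set_option autoImplicit false
noncomputable section

universe u v

open Polynomial

namespace Groth.Agent.AICCover

open Groth.Agent.SubtrLib (IsAIC)

/-- Orthogonal elements are separated by an idempotent. -/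
def IdemSplit (C : Type u) [CommRing C] : Prop :=
  ∀ a b : C, a * b = 0 → ∃ e : C, IsIdempotentElem e ∧ e * a = a ∧ e * b = 0

theorem isAIC_integralClosure {R P : Type u} [CommRing R] [CommRing P] [Algebra R P]
    (hP : IsAIC P) : IsAIC (integralClosure R P) := by
  intro g hg hd
  rcases subsingleton_or_nontrivial P with h | h
  · exact ⟨0, Subtype.ext (Subsingleton.elim _ _)⟩
  obtain ⟨x, hx⟩ := hP (g.map (integralClosure R P).val.toRingHom) (hg.map _) (by rwa [hg.natDegree_map])
  have hi : IsIntegral (integralClosure R P) x := ⟨g, hg, by rw [Polynomial.eval_map] at hx; exact hx⟩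
  refine ⟨⟨x, isIntegral_trans (R := R) x hi⟩, Subtype.ext ?_⟩
  rw [Polynomial.eval_map] at hx
  change ((integralClosure R P).val.toRingHom) (eval _ g) = _
  rw [← eval₂_at_apply]
  exact hx

theorem isAIC_pi {ι : Type v} (K : ι → Type u) [∀ i, Field (K i)] [∀ i, IsAlgClosed (K i)]
    (g : Polynomial (∀ i, K i)) (hg : g.Monic) (hd : 0 < g.natDegree) : ∃ x, g.eval x = 0 := by
  rcases isEmpty_or_nonempty ι with h | ⟨⟨i0⟩⟩
  · exact ⟨0, Subsingleton.elim _ _⟩
  have : ∀ i, ∃ x, (g.map (Pi.evalRingHom K i)).eval x = 0 := fun i => by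
    obtain ⟨x, hx⟩ := IsAlgClosed.exists_root (g.map (Pi.evalRingHom K i)) (by
      rw [degree_eq_natDegree (hg.map _).ne_zero, hg.natDegree_map]
      exact_mod_cast hd.ne')
    exact ⟨x, hx⟩
  choose x hx using this
  refine ⟨x, funext fun i => ?_⟩
  have h1 := hx i
  rw [eval_map, show x i = Pi.evalRingHom K i x from rfl, eval₂_at_apply] at h1
  exact h1

theorem idemSplit_integralClosure_pi {R : Type u} [CommRing R] {ι : Type u} (K : ι → Type u) [∀ i, Field (K i)]
    [Algebra R (∀ i, K i)] : IdemSplit (integralClosure R (∀ i, K i)) := by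
  classical
  intro a b hab
  let e : ∀ i, K i := fun i => if (a : ∀ i, K i) i = 0 then 0 else 1
  have he : e * e = e := funext fun i => by
    by_cases h : (a : ∀ i, K i) i = 0 <;> simp [e, h]
  have hei : IsIntegral R e := ⟨X ^ 2 - X, by nontriviality R; exact (monic_X_pow 2).sub_of_left (by rw [degree_X_pow, degree_X]; norm_num), by
    simp [sq, he]⟩
  refine ⟨⟨e, hei⟩, Subtype.ext he, Subtype.ext (funext fun i => ?_), Subtype.ext (funext fun i => ?_)⟩
  · by_cases h : (a : ∀ i, K i) i = 0 <;> simp [e, h]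
  · have h1 : (a : ∀ i, K i) i * (b : ∀ i, K i) i = 0 := congrFun (congrArg Subtype.val hab) i
    by_cases h : (a : ∀ i, K i) i = 0
    · simp [e, h]
    · simp [e, h, (mul_eq_zero.1 h1).resolve_left h]

section Localization

variable {C : Type u} [CommRing C] (Q : Ideal C) [Q.IsPrime]

theorem isDomain_localization (hC : IdemSplit C) : IsDomain (Localization.AtPrime Q) := by
  haveI : NoZeroDivisors (Localization.AtPrime Q) := by
    refine ⟨fun {x y} hxy => ?_⟩
    obtain ⟨⟨a, s⟩, rfl⟩ := IsLocalization.mk'_surjective Q.primeCompl x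
    obtain ⟨⟨b, t⟩, rfl⟩ := IsLocalization.mk'_surjective Q.primeCompl y
    rw [← IsLocalization.mk'_mul, IsLocalization.mk'_eq_zero_iff] at hxy
    obtain ⟨⟨m, hm⟩, hmab⟩ := hxy
    obtain ⟨e, he, hea, heb⟩ := hC (m * a) b (by rw [mul_assoc]; exact hmab)
    by_cases heQ : e ∈ Q
    · left
      have h1 : 1 - e ∉ Q := fun h => Ideal.IsPrime.ne_top ‹_› (Q.eq_top_iff_one.2 (by
        simpa using Q.add_mem h heQ))
      refine (IsLocalization.mk'_eq_zero_iff a s).2 ⟨⟨(1 - e) * m, Q.primeCompl.mul_mem h1 hm⟩, ?_⟩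
      show (1 - e) * m * a = 0
      rw [mul_assoc, sub_mul, one_mul, hea, sub_self]
    · right
      exact (IsLocalization.mk'_eq_zero_iff b t).2 ⟨⟨e, heQ⟩, heb⟩
  exact NoZeroDivisors.to_isDomain _

theorem isAIC_localization (hC : IsAIC C) : IsAIC (Localization.AtPrime Q) := by
  intro g hg hd
  obtain ⟨⟨b, hb⟩, hint⟩ :=
    IsLocalization.exist_integer_multiples Q.primeCompl (Finset.range (g.natDegree + 1)) fun i => g.coeff i
  set s : Localization.AtPrime Q := algebraMap C _ b
  have hu : IsUnit s := IsLocalization.map_units _ (⟨b, hb⟩ : Q.primeCompl)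
  have hl : g.scaleRoots s ∈ Polynomial.lifts (algebraMap C (Localization.AtPrime Q)) := by
    rw [Polynomial.lifts_iff_coeff_lifts]
    intro i
    rw [coeff_scaleRoots]
    rcases lt_trichotomy i g.natDegree with h | rfl | h
    · obtain ⟨c, hc⟩ := hint i (Finset.mem_range.2 (by omega))
      refine ⟨c * b ^ (g.natDegree - i - 1), ?_⟩
      rw [map_mul, map_pow, hc, Algebra.smul_def]
      show s * g.coeff i * s ^ (g.natDegree - i - 1) = g.coeff i * s ^ (g.natDegree - i)
      rw [mul_comm s, mul_assoc, ← pow_succ']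
      congr 2
      omega
    · exact ⟨1, by rw [map_one, Nat.sub_self, pow_zero, mul_one]; exact hg.symm⟩
    · exact ⟨0, by rw [map_zero, coeff_eq_zero_of_natDegree_lt h, zero_mul]⟩
  obtain ⟨q, hq, hqd, hqm⟩ := Polynomial.lifts_and_degree_eq_and_monic hl ((monic_scaleRoots_iff s).2 hg)
  obtain ⟨y, hy⟩ := hC q hqm (by
    rw [Polynomial.natDegree_eq_of_degree_eq hqd, natDegree_scaleRoots]; exact hd)
  obtain ⟨w, hw⟩ := hu
  refine ⟨algebraMap C (Localization.AtPrime Q) y * ↑w⁻¹, ?_⟩
  have h1 : (g.scaleRoots s).eval (s * (algebraMap C (Localization.AtPrime Q) y * ↑w⁻¹)) =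
      s ^ g.natDegree * g.eval (algebraMap C (Localization.AtPrime Q) y * ↑w⁻¹) := by
    simpa [eval₂_id] using scaleRoots_eval₂_mul (p := g) (RingHom.id _) (algebraMap C (Localization.AtPrime Q) y * ↑w⁻¹) s
  have h2 : s * (algebraMap C (Localization.AtPrime Q) y * ↑w⁻¹) = algebraMap C (Localization.AtPrime Q) y := by
    rw [← hw, mul_left_comm, Units.mul_inv, mul_one]
  rw [h2, ← hq, eval_map, eval₂_at_apply, hy, map_zero] at h1
  exact ((Units.isUnit w).pow g.natDegree).mul_right_eq_zero.1 (hw ▸ h1.symm)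

end Localization

section Sections

variable {O : Type u} [CommRing O] [IsDomain O]

theorem exists_algHom_of_integral (hO : IsAIC O) {B : Type u} [CommRing B] [Algebra O B]
    [Algebra.IsIntegral O B] (P : Ideal B) [P.IsPrime] (hP : P.comap (algebraMap O B) = ⊥) :
    Nonempty (B →ₐ[O] O) := by
  have hinj : Function.Injective (algebraMap O (B ⧸ P)) := by
    rw [injective_iff_map_eq_zero]
    intro a ha
    exact Ideal.mem_bot.mp (hP ▸ (Ideal.Quotient.eq_zero_iff_mem.mp ha : algebraMap O B a ∈ P))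
  have hsurj : Function.Surjective (algebraMap O (B ⧸ P)) := fun x =>
    hO.mem_range_of_isIntegral (Algebra.IsIntegral.isIntegral x)
  exact ⟨(AlgEquiv.ofBijective (Algebra.ofId O (B ⧸ P)) ⟨hinj, hsurj⟩).symm.toAlgHom.comp
    (Ideal.Quotient.mkₐ O P)⟩

omit [IsDomain O] in
theorem exists_prod_eq_of_monic (hO : IsAIC O) :
    ∀ (n : ℕ) (g : O[X]), g.Monic → g.natDegree = n → ∃ s : Multiset O, g = (s.map fun r => X - C r).prod := by
  intro n
  induction n with
  | zero => intro g hg hd; exact ⟨0, by simpa using hg.natDegree_eq_zero.mp hd⟩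
  | succ n ih =>
    intro g hg hd
    rcases subsingleton_or_nontrivial O with h | h
    · exact ⟨0, Subsingleton.elim _ _⟩
    obtain ⟨a, ha⟩ := hO g hg (by omega)
    obtain ⟨g', hg'⟩ := dvd_iff_isRoot.mpr ha
    have hgm : g'.Monic := (monic_X_sub_C a).of_mul_monic_left (hg' ▸ hg)
    obtain ⟨s, hs⟩ := ih g' hgm (by
      rw [hg', (monic_X_sub_C a).natDegree_mul hgm, natDegree_X_sub_C] at hd; omega)
    exact ⟨a ::ₘ s, by rw [Multiset.map_cons, Multiset.prod_cons, ← hs, hg']⟩

theorem exists_algHom_of_etale [IsLocalRing O] (hO : IsAIC O) {B : Type u} [CommRing B] [Algebra O B]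
    [Algebra.Etale O B] (q : Ideal B) [q.IsPrime]
    (hq : q.comap (algebraMap O B) = IsLocalRing.maximalIdeal O) : Nonempty (B →ₐ[O] O) := by
  obtain ⟨f, hf, hst⟩ := Algebra.IsEtaleAt.exists_isStandardEtale (R := O) q
  obtain ⟨P⟩ := hst.nonempty_standardEtalePresentation
  obtain ⟨s, hs⟩ := exists_prod_eq_of_monic hO _ P.P.f P.P.monic_f rfl
  let L := q.ResidueField
  let ψ : Localization.Away f →ₐ[O] L := IsLocalization.liftAlgHom (M := Submonoid.powers f)
    (f := IsScalarTower.toAlgHom O B L) (by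
      rintro ⟨_, n, rfl⟩
      show IsUnit (algebraMap B L (f ^ n))
      rw [map_pow]
      exact (IsUnit.mk0 (algebraMap B L f) fun h => hf (Ideal.algebraMap_residueField_eq_zero.1 h)).pow n)
  have hm := P.hasMap.map ψ
  set ξ := ψ P.x with hξ
  have h0 : ((s.map fun r => (X - C r : O[X])).map fun t => aeval ξ t).prod = 0 := by
    rw [← map_multiset_prod, ← hs]; exact hm.1
  rw [Multiset.prod_eq_zero_iff, Multiset.map_map, Multiset.mem_map] at h0
  obtain ⟨r, hr, hr0⟩ := h0
  simp only [Function.comp_apply, map_sub, aeval_X, aeval_C, sub_eq_zero] at hr0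
  have hroot : aeval r P.P.f = 0 := by
    rw [hs, map_multiset_prod, Multiset.prod_eq_zero_iff, Multiset.map_map, Multiset.mem_map]
    exact ⟨r, hr, by simp⟩
  have hunit : IsUnit (aeval r P.P.g) := by
    have h1 : IsUnit (algebraMap O L (aeval r P.P.g)) := by
      rw [← aeval_algebraMap_apply, ← hr0]; exact hm.2
    by_contra hn
    refine h1.ne_zero ?_
    rw [IsScalarTower.algebraMap_apply O B L, Ideal.algebraMap_residueField_eq_zero]
    show aeval r P.P.g ∈ q.comap (algebraMap O B)
    rw [hq]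
    exact hn
  exact ⟨((P.P.lift r ⟨hroot, hunit⟩).comp P.equivRing.toAlgHom).comp (IsScalarTower.toAlgHom O B _)⟩

end Sections

/-- A map from a finitely presented algebra to a localization spreads out. -/
theorem exists_spread {A C : Type u} [CommRing A] [CommRing C] [Algebra A C] (Q : Ideal C) [Q.IsPrime]
    {B : Type u} [CommRing B] [Algebra A B] [Algebra.FinitePresentation A B]
    (ψ : B →ₐ[A] Localization.AtPrime Q) :
    ∃ g ∉ Q, Nonempty (B →ₐ[A] Localization.Away g) := by
  classical
  obtain ⟨n, π, hπ, ⟨G, hG⟩⟩ := (inferInstance : Algebra.FinitePresentation A B).out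
  obtain ⟨⟨b, hb⟩, hint⟩ := IsLocalization.exist_integer_multiples Q.primeCompl (Finset.univ : Finset (Fin n))
    fun i => ψ (π (MvPolynomial.X i))
  choose c hc using fun i => hint i (Finset.mem_univ i)
  let φ : Localization.Away b →ₐ[A] Localization.AtPrime Q := IsLocalization.liftAlgHom (M := Submonoid.powers b)
    (f := IsScalarTower.toAlgHom A C _) (by
      rintro ⟨_, m, rfl⟩
      exact IsLocalization.map_units (Localization.AtPrime Q) (⟨b ^ m, pow_mem hb m⟩ : Q.primeCompl))
  have hφ : ∀ x, φ (algebraMap C _ x) = algebraMap C _ x := fun x => by simp [φ]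
  let v : Fin n → Localization.Away b := fun i =>
    IsLocalization.mk' _ (c i) (⟨b, Submonoid.mem_powers b⟩ : Submonoid.powers b)
  have hv : ∀ i, φ (v i) = ψ (π (MvPolynomial.X i)) := fun i => by
    refine (IsLocalization.map_units (Localization.AtPrime Q) (⟨b, hb⟩ : Q.primeCompl)).mul_right_cancel ?_
    have h1 := congrArg φ (IsLocalization.mk'_spec (Localization.Away b) (c i)
      (⟨b, Submonoid.mem_powers b⟩ : Submonoid.powers b))
    rw [map_mul, hφ, hφ] at h1
    rw [h1, hc, Algebra.smul_def, mul_comm]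
  have hφπ : ∀ F, φ (MvPolynomial.aeval v F) = ψ (π F) := fun F =>
    DFunLike.congr_fun (MvPolynomial.algHom_ext (f := φ.comp (MvPolynomial.aeval v)) (g := ψ.comp π)
      fun i => by simpa using hv i) F
  have hkill : ∀ F ∈ G, ∃ t ∉ Q, algebraMap C (Localization.Away b) t * MvPolynomial.aeval v F = 0 := by
    intro F hF
    obtain ⟨⟨x, ⟨_, m, rfl⟩⟩, hx⟩ := IsLocalization.mk'_surjective (Submonoid.powers b) (MvPolynomial.aeval v F)
    have h0 : φ (MvPolynomial.aeval v F) = 0 := by
      rw [hφπ, show π F = 0 from RingHom.mem_ker.1 (hG ▸ Ideal.subset_span hF), map_zero]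
    have h1 := congrArg φ (IsLocalization.mk'_spec (Localization.Away b) x (⟨b ^ m, m, rfl⟩ : Submonoid.powers b))
    simp only at hx
    rw [map_mul, hx, h0, zero_mul, hφ] at h1
    obtain ⟨⟨t, ht⟩, htx⟩ := (IsLocalization.map_eq_zero_iff Q.primeCompl (Localization.AtPrime Q) x).1 h1.symm
    refine ⟨t, ht, (IsLocalization.map_units (Localization.Away b)
      (⟨b ^ m, m, rfl⟩ : Submonoid.powers b)).mul_left_eq_zero.1 ?_⟩
    rw [← hx, mul_assoc, IsLocalization.mk'_spec, ← map_mul]
    exact (congrArg _ htx).trans (map_zero _)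
  choose t ht htF using hkill
  let g : C := b * ∏ F ∈ G.attach, t F.1 F.2
  have hgQ : g ∉ Q := Q.primeCompl.mul_mem hb (prod_mem fun F _ => ht F.1 F.2)
  have hbu : IsUnit (algebraMap C (Localization.Away g) b) :=
    isUnit_of_dvd_unit (map_dvd _ (dvd_mul_right b _)) (IsLocalization.map_units _ (⟨g, Submonoid.mem_powers g⟩ : Submonoid.powers g))
  let θ : Localization.Away b →ₐ[A] Localization.Away g := IsLocalization.liftAlgHom (M := Submonoid.powers b)
    (f := IsScalarTower.toAlgHom A C _) (by
      rintro ⟨_, m, rfl⟩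
      simpa using hbu.pow m)
  have hθ : ∀ x, θ (algebraMap C _ x) = algebraMap C _ x := fun x => by simp [θ]
  have hker : ∀ x ∈ RingHom.ker π, θ (MvPolynomial.aeval v x) = 0 := by
    intro x hx
    replace hx : x ∈ Ideal.span (G : Set (MvPolynomial (Fin n) A)) := hG.symm ▸ hx
    induction hx using Submodule.span_induction with
    | mem F hF =>
      have h1 := congrArg θ (htF F hF)
      rw [map_mul, hθ, map_zero] at h1
      refine (IsUnit.mul_right_eq_zero ?_).1 h1
      exact isUnit_of_dvd_unit (map_dvd _ (dvd_mul_of_dvd_right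
        (Finset.dvd_prod_of_mem (fun F : G => t F.1 F.2) (Finset.mem_attach _ ⟨F, hF⟩)) b))
        (IsLocalization.map_units _ (⟨g, Submonoid.mem_powers g⟩ : Submonoid.powers g))
    | zero => simp
    | add _ _ _ _ h1 h2 => simp [h1, h2]
    | smul r z _ hz => simp [hz]
  let q : (MvPolynomial (Fin n) A ⧸ RingHom.ker π) →ₐ[A] Localization.Away g :=
    Ideal.Quotient.liftₐ (RingHom.ker π) (θ.comp (MvPolynomial.aeval v)) hker
  exact ⟨g, hgQ, ⟨q.comp (Ideal.quotientKerAlgEquivOfSurjective hπ).symm.toAlgHom⟩⟩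

end Groth.Agent.AICCover
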