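import Groth.Agent.AICCover.Ring

/-!
# The absolutely integrally closed integral cover of a scheme

On an affine open `U` it is the integral closure of `Γ(S, U)` in the product of algebraic closures of
the residue fields at the generic points of `S` lying in `U`.
-/

set_option autoImplicit false
noncomputable section

universe u

open CategoryTheory AlgebraicGeometry Limits Opposite Scheme TopologicalSpace
open AlgebraicGeometry.Scheme AffineZariskiSite

namespace Groth.Agent.AICCover

variable (S : Scheme.{u})

/-- Generic points of components lying in an open. -/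
abbrev GenPt (U : S.Opens) : Type u := {x : genericPoints S // (x : S) ∈ U}

/-- The product of algebraic closures at the generic points in an open. -/
abbrev FieldProd (U : S.Opens) : Type u := ∀ x : GenPt S U, AlgebraicClosure (S.residueField (x.1 : S))

theorem exists_genPt_specializes (x : S) : ∃ y ∈ genericPoints S, y ⤳ x := by
  let C : irreducibleComponents S := ⟨irreducibleComponent x, irreducibleComponent_mem_irreducibleComponents x⟩
  refine ⟨(genericPoints.ofComponent C).1, (genericPoints.ofComponent C).2, ?_⟩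
  exact (genericPoints.isGenericPoint_ofComponent C).specializes mem_irreducibleComponent

/-- Evaluation at the generic points. -/
def evalGen (U : S.Opens) : Γ(S, U) →+* FieldProd S U :=
  Pi.ringHom fun x => (algebraMap _ (AlgebraicClosure (S.residueField (x.1 : S)))).comp
    (S.evaluation U x.1 x.2).hom

theorem evalGen_apply (U : S.Opens) (a : Γ(S, U)) (x : GenPt S U) :
    evalGen S U a x = algebraMap _ (AlgebraicClosure (S.residueField (x.1 : S))) (S.evaluation U x.1 x.2 a) := rfl

theorem evalGen_apply_eq_zero_iff (U : S.Opens) (a : Γ(S, U)) (x : GenPt S U) :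
    evalGen S U a x = 0 ↔ (x.1 : S) ∉ S.basicOpen a := by
  rw [evalGen_apply, _root_.map_eq_zero, evaluation_eq_zero_iff_notMem_basicOpen]

/-- Restriction of coordinates. -/
def resProd {U V : S.Opens} (h : U ≤ V) : FieldProd S V →+* FieldProd S U :=
  Pi.ringHom fun x => Pi.evalRingHom (fun y : GenPt S V => AlgebraicClosure (S.residueField (y.1 : S))) ⟨x.1, h x.2⟩

theorem resProd_evalGen {U V : S.Opens} (h : U ≤ V) (a : Γ(S, V)) :
    resProd S h (evalGen S V a) = evalGen S U (S.presheaf.map (homOfLE h).op a) := by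
  funext x
  show algebraMap _ (AlgebraicClosure (S.residueField (x.1 : S))) (S.evaluation V x.1 (h x.2) a) =
    algebraMap _ (AlgebraicClosure (S.residueField (x.1 : S))) (S.evaluation U x.1 x.2 _)
  congr 1
  exact congrArg (S.residue _) (S.presheaf.germ_res_apply (homOfLE h) _ x.2 a).symm

theorem isNilpotent_of_evalGen_eq_zero {U : S.Opens} (hU : IsAffineOpen U) {a : Γ(S, U)}
    (ha : evalGen S U a = 0) : IsNilpotent a := by
  rw [Scheme.isNilpotent_iff_basicOpen_eq_bot_of_isCompact hU.isCompact]
  ext x
  simp only [Opens.coe_bot, Set.mem_empty_iff_false, iff_false]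
  intro hx
  obtain ⟨y, hy, hyx⟩ := exists_genPt_specializes S x
  have hyD : y ∈ S.basicOpen a := hyx.mem_open (S.basicOpen a).2 hx
  exact (evalGen_apply_eq_zero_iff S U a ⟨⟨y, hy⟩, S.basicOpen_le a hyD⟩).1 (by rw [ha]; rfl) hyD

/-- The coordinate rings of the cover. -/
def ring (U : S.Opens) : Subring (FieldProd S U) :=
  letI := (evalGen S U).toAlgebra
  (integralClosure Γ(S, U) (FieldProd S U)).toSubring

theorem resProd_mem {U V : S.Opens} (h : U ≤ V) {x : FieldProd S V} (hx : x ∈ ring S V) :
    resProd S h x ∈ ring S U := by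
  letI := (evalGen S U).toAlgebra
  letI := (evalGen S V).toAlgebra
  obtain ⟨q, hq, hqx⟩ := hx
  refine ⟨q.map (S.presheaf.map (homOfLE h).op).hom, hq.map _, ?_⟩
  rw [Polynomial.eval₂_map]
  have hc : (algebraMap Γ(S, U) (FieldProd S U)).comp (S.presheaf.map (homOfLE h).op).hom =
      (resProd S h).comp (algebraMap Γ(S, V) (FieldProd S V)) :=
    RingHom.ext fun a => (resProd_evalGen S h a).symm
  rw [hc, ← Polynomial.hom_eval₂, hqx, map_zero]

/-- The presheaf of coordinate rings. -/
def diagram : S.Opensᵒᵖ ⥤ CommRingCat.{u} where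
  obj U := .of (ring S U.unop)
  map {V U} i := CommRingCat.ofHom (((resProd S i.unop.le).comp (ring S V.unop).subtype).codRestrict (ring S U.unop)
    fun x => resProd_mem S i.unop.le x.2)
  map_id U := by ext; rfl
  map_comp i j := by ext; rfl

theorem evalGen_mem (U : S.Opens) (a : Γ(S, U)) : evalGen S U a ∈ ring S U :=
  letI := (evalGen S U).toAlgebra
  isIntegral_algebraMap (R := Γ(S, U)) (A := FieldProd S U) (x := a)

/-- The structure map. -/
def toRing (U : S.Opens) : Γ(S, U) →+* ring S U := (evalGen S U).codRestrict _ (evalGen_mem S U)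

/-- The structure map of presheaves. -/
def diagramMap : S.presheaf ⟶ diagram S where
  app U := CommRingCat.ofHom (toRing S U.unop)
  naturality {V U} i := by
    ext a
    exact Subtype.ext (resProd_evalGen S i.unop.le a).symm

theorem isLocalizationAway_fieldProd {U : S.Opens} (r : Γ(S, U)) :
    letI := (resProd S (S.basicOpen_le r)).toAlgebra
    IsLocalization.Away (evalGen S U r) (FieldProd S (S.basicOpen r)) := by
  classical
  letI := (resProd S (S.basicOpen_le r)).toAlgebra
  have hne : ∀ x : GenPt S (S.basicOpen r),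
      evalGen S U r ⟨x.1, S.basicOpen_le r x.2⟩ ≠ 0 := fun x h =>
    (evalGen_apply_eq_zero_iff S U r _).1 h x.2
  refine IsLocalization.Away.mk (evalGen S U r) ?_ ?_ ?_
  · exact Pi.isUnit_iff.2 fun x => isUnit_iff_ne_zero.2 (hne x)
  · intro z
    refine ⟨0, fun x => if h : (x.1 : S) ∈ S.basicOpen r then z ⟨x.1, h⟩ else 0, ?_⟩
    rw [pow_zero, mul_one]
    funext x
    show z x = dite ((x.1 : S) ∈ S.basicOpen r) _ _
    rw [dif_pos x.2]
  · intro a b hab
    refine ⟨1, funext fun x => ?_⟩
    rw [pow_one, Pi.mul_apply, Pi.mul_apply]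
    by_cases h : (x.1 : S) ∈ S.basicOpen r
    · exact congrArg _ (congrFun hab ⟨x.1, h⟩)
    · rw [(evalGen_apply_eq_zero_iff S U r x).2 h, zero_mul, zero_mul]

theorem coequifibered_diagramMap :
    ((toOpensFunctor S).op.whiskerLeft (diagramMap S)).Coequifibered := by
  refine coequifibered_iff_forall_isLocalizationAway.mpr fun U r ↦ ?_
  letI : Algebra Γ(S, U.1) (FieldProd S U.1) := (evalGen S U.1).toAlgebra
  letI : Algebra Γ(S, S.basicOpen r) (FieldProd S (S.basicOpen r)) := (evalGen S (S.basicOpen r)).toAlgebra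
  letI : Algebra (FieldProd S U.1) (FieldProd S (S.basicOpen r)) := (resProd S (S.basicOpen_le r)).toAlgebra
  let ρ : integralClosure Γ(S, U.1) (FieldProd S U.1) →+*
      integralClosure Γ(S, S.basicOpen r) (FieldProd S (S.basicOpen r)) :=
    ((diagram S).map (homOfLE (S.basicOpen_le r)).op).hom
  letI := ρ.toAlgebra
  letI : Algebra Γ(S, U.1) (FieldProd S (S.basicOpen r)) :=
    ((resProd S (S.basicOpen_le r)).comp (evalGen S U.1)).toAlgebra
  haveI : IsLocalization.Away r Γ(S, S.basicOpen r) := U.2.isLocalization_basicOpen _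
  haveI : IsLocalization.Away (algebraMap Γ(S, U.1) (FieldProd S U.1) r) (FieldProd S (S.basicOpen r)) :=
    isLocalizationAway_fieldProd S r
  haveI : IsScalarTower Γ(S, U.1) (FieldProd S U.1) (FieldProd S (S.basicOpen r)) := .of_algebraMap_eq' rfl
  haveI : IsScalarTower Γ(S, U.1) Γ(S, S.basicOpen r) (FieldProd S (S.basicOpen r)) :=
    .of_algebraMap_eq fun a => resProd_evalGen S (S.basicOpen_le r) a
  haveI : IsScalarTower (integralClosure Γ(S, U.1) (FieldProd S U.1))
      (integralClosure Γ(S, S.basicOpen r) (FieldProd S (S.basicOpen r)))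
      (FieldProd S (S.basicOpen r)) := .of_algebraMap_eq' rfl
  haveI : IsScalarTower Γ(S, U.1) (integralClosure Γ(S, U.1) (FieldProd S U.1))
      (integralClosure Γ(S, S.basicOpen r) (FieldProd S (S.basicOpen r))) :=
    .of_algebraMap_eq' rfl
  exact IsLocalization.Away.integralClosure (R := Γ(S, U.1)) (S := FieldProd S U.1)
    (Rf := Γ(S, S.basicOpen r)) (Sf := FieldProd S (S.basicOpen r)) r

/-- The gluing data. -/
def glueData := relativeGluingData (coequifibered_diagramMap S)

instance : ((glueData S).functor ⋙ Scheme.forget).IsLocallyDirected :=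
  Cover.RelativeGluingData.instIsLocallyDirectedI₀CompFunctorForgetOfIsThin ..

/-- The cover. -/
def space : Scheme.{u} := (glueData S).glued

/-- The projection. -/
def proj : space S ⟶ S := (glueData S).toBase

/-- The affine charts. -/
def chart : (space S).OpenCover := (glueData S).cover

set_option backward.isDefEq.respectTransparency false in
theorem chart_proj (U : S.AffineZariskiSite) :
    (chart S).f U ≫ proj S = Spec.map (CommRingCat.ofHom (toRing S U.1)) ≫ U.2.fromSpec :=
  colimit.ι_desc _ _

set_option backward.isDefEq.respectTransparency.types false in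
theorem proj_preimage (U : S.AffineZariskiSite) : proj S ⁻¹ᵁ U.1 = ((chart S).f U).opensRange := by
  simpa using! (glueData S).toBase_preimage_eq_opensRange_ι U

set_option backward.isDefEq.respectTransparency false in
instance isIntegralHom_proj : IsIntegralHom (proj S) := by
  rw [IsZariskiLocalAtTarget.iff_of_iSup_eq_top (P := @IsIntegralHom) _ (iSup_affineOpens_eq_top _)]
  intro U
  let e := IsOpenImmersion.isoOfRangeEq (proj S ⁻¹ᵁ U).ι ((chart S).f U)
    (by simpa using congr($(proj_preimage S U).1))
  rw [← MorphismProperty.cancel_left_of_respectsIso @IsIntegralHom e.inv,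
    ← MorphismProperty.cancel_right_of_respectsIso @IsIntegralHom _ U.2.isoSpec.hom]
  have : (CommRingCat.ofHom (toRing S U.1)).hom.IsIntegral := by
    letI := (evalGen S U.1).toAlgebra
    show (algebraMap Γ(S, U.1) (integralClosure Γ(S, U.1) (FieldProd S U.1))).IsIntegral
    exact algebraMap_isIntegral_iff.mpr inferInstance
  convert! IsIntegralHom.SpecMap_iff.mpr this
  rw [← cancel_mono U.2.fromSpec]
  simp [IsAffineOpen.isoSpec_hom, e, chart_proj]

instance surjective_proj : Surjective (proj S) := by
  refine ⟨fun s => ?_⟩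
  obtain ⟨U, hU, hsU, -⟩ := exists_isAffineOpen_mem_and_subset (x := s) (U := (⊤ : S.Opens)) trivial
  let U' : S.AffineZariskiSite := ⟨U, hU⟩
  obtain ⟨p, hp⟩ : ∃ p, hU.fromSpec p = s := by
    have : s ∈ Set.range hU.fromSpec := by rw [hU.range_fromSpec]; exact hsU
    exact this
  letI := (evalGen S U).toAlgebra
  have hker : RingHom.ker (algebraMap Γ(S, U) (integralClosure Γ(S, U) (FieldProd S U))) ≤ p.asIdeal := by
    intro a ha
    obtain ⟨n, hn⟩ := isNilpotent_of_evalGen_eq_zero S hU (a := a) (congrArg Subtype.val ha)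
    exact p.2.mem_of_pow_mem n (hn ▸ zero_mem _)
  haveI hp0 : p.asIdeal.IsPrime := p.2
  obtain ⟨Q, -, hQ, hQp⟩ := Ideal.exists_ideal_over_prime_of_isIntegral p.asIdeal (⊥ : Ideal (integralClosure Γ(S, U) (FieldProd S U))) hker
  refine ⟨(chart S).f U' ⟨Q, hQ⟩, ?_⟩
  have h1 : proj S ((chart S).f U' ⟨Q, hQ⟩) =
      hU.fromSpec (Spec.map (CommRingCat.ofHom (toRing S U)) ⟨Q, hQ⟩) :=
    congrArg (fun m : Spec (CommRingCat.of (ring S U)) ⟶ S => m ⟨Q, hQ⟩) (chart_proj S U')
  refine h1.trans ((congrArg hU.fromSpec ?_).trans hp)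
  exact PrimeSpectrum.ext hQp

theorem isAIC_ring (U : S.Opens) : SubtrLib.IsAIC (ring S U) :=
  letI := (evalGen S U).toAlgebra
  isAIC_integralClosure (R := Γ(S, U)) (P := FieldProd S U) (isAIC_pi _)

theorem idemSplit_ring (U : S.Opens) : IdemSplit (ring S U) :=
  letI := (evalGen S U).toAlgebra
  idemSplit_integralClosure_pi (R := Γ(S, U)) _

end Groth.Agent.AICCover
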